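/-
Nine vectors of norm two in the orthogonal space of plus type in dimension eight over three elements, the steps by
their reflections on packed coordinates, and the relators on them.
-/
import Cfsg.Agent.Lib.Spor.Fi23Plus.Rels
import Cfsg.Agent.Lib.Spor.Fi23Plus.VecTree
import Cfsg.Agent.Lib.Spor.TC.Action
import Cfsg.Prelude.Def_Classical

set_option autoImplicit false

namespace CfsgLib.Spor.Fi23Plus

open CfsgLib.Spor.TC

/-- The coordinates. -/
abbrev Ix : Type := Fin 4 ⊕ Fin 4

/-- The vectors. -/
abbrev Vec : Type := Ix → ZMod 3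

/-- The quadratic form. -/
abbrev qf : Vec → ZMod 3 := Cfsg.quadFormPlus 4 (ZMod 3)

/-- Packed vectors to vectors. -/
def dec (n : ℕ) : Vec
  | .inl i => ((n / 3 ^ i.1 : ℕ) : ZMod 3)
  | .inr i => ((n / 3 ^ (4 + i.1) : ℕ) : ZMod 3)

/-- Vectors to packed vectors. -/
def enc (v : Vec) : ℕ :=
  (v (.inl 0)).val + 3 * ((v (.inl 1)).val + 3 * ((v (.inl 2)).val + 3 * ((v (.inl 3)).val +
    3 * ((v (.inr 0)).val + 3 * ((v (.inr 1)).val + 3 * ((v (.inr 2)).val + 3 * (v (.inr 3)).val))))))

theorem dec_enc (v : Vec) : dec (enc v) = v := by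
  have hlt : ∀ a : ZMod 3, a.val < 3 := fun a => ZMod.val_lt a
  have key : ∀ (n : ℕ) (a : ZMod 3), n % 3 = a.val → (n : ZMod 3) = a := fun n a h => by
    rw [← ZMod.natCast_mod, h, ZMod.natCast_zmod_val]
  have hfin : ∀ j : Fin 4, j = 0 ∨ j = 1 ∨ j = 2 ∨ j = 3 := by decide
  funext i
  rcases i with i | i
  all_goals
    refine key _ _ ?_
    have h1 := hlt (v (.inl 0))
    have h2 := hlt (v (.inl 1))
    have h3 := hlt (v (.inl 2))
    have h4 := hlt (v (.inl 3))
    have h5 := hlt (v (.inr 0))
    have h6 := hlt (v (.inr 1))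
    have h7 := hlt (v (.inr 2))
    have h8 := hlt (v (.inr 3))
    rcases hfin i with rfl | rfl | rfl | rfl <;>
    · norm_num [enc]
      omega

theorem enc_lt (v : Vec) : enc v < 6561 := by
  have hlt : ∀ a : ZMod 3, a.val < 3 := fun a => ZMod.val_lt a
  have h1 := hlt (v (.inl 0))
  have h2 := hlt (v (.inl 1))
  have h3 := hlt (v (.inl 2))
  have h4 := hlt (v (.inl 3))
  have h5 := hlt (v (.inr 0))
  have h6 := hlt (v (.inr 1))
  have h7 := hlt (v (.inr 2))
  have h8 := hlt (v (.inr 3))
  simp only [enc]; omega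

/-- The nine vectors, packed. -/
def rootCode (i : ℕ) : ℕ := [1710, 2495, 5063, 4338, 4255, 2687, 4994, 6024, 5960].getD i 1710

/-- The nine vectors. -/
def root (i : ℕ) : Vec := dec (rootCode i)

theorem qf_root (i : ℕ) : qf (root i) = 2 := by
  by_cases h : i < 9
  · exact (show ∀ j < 9, qf (root j) = 2 by decide +kernel) i h
  · rw [root, rootCode, List.getD_eq_default _ _ (by simpa using Nat.le_of_not_lt h)]
    decide +kernel

/-- The reflection in a root, on vectors. -/
def step (i : ℕ) (x : Vec) : Vec := x - (2 * QuadraticMap.polar qf x (root i)) • root i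

/-- The same on packed vectors. -/
def stepC (i : ℕ) (n : ℕ) : ℕ := enc (step i (dec n))

/-- A word of steps. -/
def wordC : List ℕ → ℕ → ℕ
  | [], n => n
  | i :: w, n => stepC i (wordC w n)

/-- A word of steps on vectors. -/
def wordV : List ℕ → Vec → Vec
  | [], x => x
  | i :: w, x => step i (wordV w x)

theorem wordV_dec : ∀ (w : List ℕ) (n : ℕ), wordV w (dec n) = dec (wordC w n)
  | [], _ => rfl
  | i :: w, n => by
    show step i (wordV w (dec n)) = dec (enc (step i (dec (wordC w n))))
    rw [dec_enc, wordV_dec w n]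

/-- The packed unit vectors. -/
def units : List ℕ := [1, 3, 9, 27, 81, 243, 729, 2187]

/-- The first relators, all but the last one. -/
def relsO8 : List PowRel := relsK.dropLast

theorem relsK_eq : relsK = relsO8 ++ [([0, 1, 2, 3, 4, 5, 8, 6], 15)] := by decide +kernel

theorem rels_fix : relsO8.all (fun r => units.all fun n => Nat.beq (wordC (powWord r.1 r.2) n) n) = true := by
  decide +kernel

theorem last_neg : units.all (fun n => Nat.beq (wordC (powWord [0, 1, 2, 3, 4, 5, 8, 6] 15) n) (2 * n)) = true := by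
  decide +kernel

/-- The letter towards the first root. -/
noncomputable def tLet (n : ℕ) : ℕ := Nat.land (vecTree.get 12 n) 15

/-- The distance to the first root. -/
noncomputable def tRank (n : ℕ) : ℕ := Nat.shiftRight (vecTree.get 12 n) 4

/-- The tree is right at a packed vector. -/
noncomputable def treeOK (n : ℕ) : Bool :=
  Bool.rec true
    (Nat.beq n 1710 || (Nat.blt (tLet n) 9 && Nat.blt (tRank (stepC (tLet n) n)) (tRank n)))
    (Nat.beq (qf (dec n)).val 2)

theorem tree_0 : allFrom treeOK 0 2200 = true := by decide +kernel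
theorem tree_1 : allFrom treeOK 2200 2200 = true := by decide +kernel
theorem tree_2 : allFrom treeOK 4400 2161 = true := by decide +kernel

theorem tree_spec {v : Vec} (hv : qf v = 2) : v = root 0 ∨
    (tLet (enc v) < 9 ∧ tRank (enc (step (tLet (enc v)) v)) < tRank (enc v)) := by
  have h : treeOK (enc v) = true := by
    rcases (show enc v < 2200 ∨ (2200 ≤ enc v ∧ enc v < 4400) ∨ (4400 ≤ enc v ∧ enc v < 6561) by
      have := enc_lt v; omega) with h | h | h
    · exact allFrom_spec tree_0 _ (Nat.zero_le _) (by omega)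
    · exact allFrom_spec tree_1 _ h.1 (by omega)
    · exact allFrom_spec tree_2 _ h.1 (by omega)
  rw [treeOK, dec_enc, hv, show Nat.beq (2 : ZMod 3).val 2 = true from rfl] at h
  simp only [Bool.or_eq_true, Bool.and_eq_true] at h
  rcases h with h | ⟨h1, h2⟩
  · left
    rw [← dec_enc v, Nat.eq_of_beq_eq_true h]
    rfl
  · refine Or.inr ⟨Nat.le_of_ble_eq_true h1, ?_⟩
    have := Nat.le_of_ble_eq_true h2
    rwa [stepC, dec_enc] at this

end CfsgLib.Spor.Fi23Plus
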