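/-
The presented group on nine generators maps onto reflections of the orthogonal space of plus type in dimension
eight over three elements, modulo the scalars.
-/
import Cfsg.Agent.Lib.Spor.Fi23Plus.Vec
import Cfsg.Agent.Lib.Orth.Facts
import Cfsg.Agent.Lib.Orth.Centre
import Cfsg.Agent.Lib.Perm.Trans.QuadStd
import Cfsg.Agent.Lib.Perm.Trans.QuadSimple
import Cfsg.Agent.Lib.Spor.TC.Steps

set_option autoImplicit false

namespace CfsgLib.Spor.Fi23Plus

open CfsgLib.Spor.TC CfsgLib.Perm.Trans.Quad Matrix Cfsg.Geo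

noncomputable section

theorem two_ne : (2 : ZMod 3) ≠ 0 := by decide

theorem qf_nd : IsNondegenerateQuadraticForm qf := quadFormPlus_nd

theorem root_ne (i : ℕ) : qf (root i) ≠ 0 := by rw [qf_root]; exact two_ne

/-- The isometries. -/
abbrev Iso8 := Cfsg.isometryGroup (ZMod 3) qf

/-- The matrix of an element. -/
abbrev mat (g : Iso8) : Matrix Ix Ix (ZMod 3) := g.1.1

/-- The reflection in a root, as a matrix. -/
def refl (i : ℕ) : GL Ix (ZMod 3) := (exists_refl qf_nd (root_ne i)).choose

theorem refl_spec (i : ℕ) : refl i ∈ Cfsg.isometryGroup (ZMod 3) qf ∧ IsRefl qf (root i) (refl i) :=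
  (exists_refl qf_nd (root_ne i)).choose_spec

/-- The reflections. -/
def gen (i : ℕ) : Iso8 := if i < 9 then ⟨refl i, (refl_spec i).1⟩ else 1

theorem gen_mulVec {i : ℕ} (hi : i < 9) (x : Vec) : mat (gen i) *ᵥ x = step i x := by
  rw [gen, if_pos hi]
  show (refl i : Matrix Ix Ix (ZMod 3)) *ᵥ x = _
  rw [(refl_spec i).2 x, qf_root, step, show ((2 : ZMod 3))⁻¹ = 2 by decide +kernel]

theorem ev_gen_mulVec : ∀ {w : List ℕ}, (∀ i ∈ w, i < 9) → ∀ x : Vec, mat (ev gen w) *ᵥ x = wordV w x
  | [], _, x => one_mulVec x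
  | i :: w, h, x => by
    show (mat (gen i) * mat (ev gen w)) *ᵥ x = step i (wordV w x)
    rw [← mulVec_mulVec, ev_gen_mulVec (fun j hj => h j (List.mem_cons_of_mem _ hj)) x,
      gen_mulVec (h i List.mem_cons_self)]

theorem units_single : ∀ j : Ix, ∃ n ∈ units, dec n = Pi.single j 1 := by decide +kernel

theorem eq_of_units {g h : Iso8} (H : ∀ n ∈ units, mat g *ᵥ dec n = mat h *ᵥ dec n) : g = h := by
  refine Subtype.ext (Units.ext (Matrix.ext_of_mulVec_single fun j => ?_))
  obtain ⟨n, hn, e⟩ := units_single j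
  rw [← e]
  exact H n hn

/-- Minus the identity. -/
def negOne : Iso8 := ⟨-1, CfsgLib.Perm.Trans.Quad.mem_iso.2 fun x => by
  rw [Units.val_neg, Units.val_one, neg_mulVec, one_mulVec, qneg qf_nd]⟩

theorem mat_negOne : mat negOne = -1 := rfl

theorem negOne_comm (g : Iso8) : g * negOne = negOne * g :=
  Subtype.ext (Units.ext (by
    show mat g * (-1) = (-1) * mat g
    rw [mul_neg, neg_mul, mul_one, one_mul]))

theorem negOne_sq : negOne * negOne = 1 :=
  Subtype.ext (Units.ext (by show (-1 : Matrix Ix Ix (ZMod 3)) * -1 = 1; rw [neg_mul_neg, one_mul]))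

/-- The scalars. -/
def scal : Subgroup Iso8 := Subgroup.zpowers negOne

theorem mem_scal {g : Iso8} : g ∈ scal ↔ g = 1 ∨ g = negOne := by
  constructor
  · intro hg
    obtain ⟨n, rfl⟩ := Subgroup.mem_zpowers_iff.1 hg
    have h2 : negOne ^ (2 : ℤ) = 1 := by rw [zpow_two]; exact negOne_sq
    rw [← Int.emod_add_mul_ediv n 2, _root_.zpow_add, _root_.zpow_mul, h2, _root_.one_zpow, mul_one]
    rcases Int.emod_two_eq_zero_or_one n with h | h <;> rw [h]
    · exact Or.inl (zpow_zero _)
    · exact Or.inr (zpow_one _)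
  · rintro (rfl | rfl)
    · exact one_mem _
    · exact Subgroup.mem_zpowers _

instance scal_normal : scal.Normal := ⟨fun n hn g => by
  rcases mem_scal.1 hn with rfl | rfl
  · rw [mul_one, mul_inv_cancel]; exact one_mem _
  · rw [negOne_comm, mul_inv_cancel_right]; exact hn⟩

/-- The isometries modulo the scalars. -/
abbrev Iso8Q := Iso8 ⧸ scal

/-- The quotient map. -/
abbrev mkQ : Iso8 →* Iso8Q := QuotientGroup.mk' scal

theorem gen_sq (i : ℕ) : gen i * gen i = 1 := by
  by_cases hi : i < 9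
  · refine eq_of_units fun n hn => ?_
    have hw := ev_gen_mulVec (w := [i, i]) (by simp [hi]) (dec n)
    rw [show ev gen [i, i] = gen i * gen i by simp [ev]] at hw
    rw [hw, wordV_dec]
    refine Eq.trans ?_ (one_mulVec _).symm
    exact congrArg dec ((show ∀ y < 9, ∀ m ∈ units, wordC [y, y] m = m by decide +kernel) i hi n hn)
  · rw [gen, if_neg hi, one_mul]

theorem rels_below : ∀ r ∈ relsK, ∀ y ∈ powWord r.1 r.2, y < 9 := by decide +kernel

theorem gen_rel {r : PowRel} (hr : r ∈ relsO8) : ev gen r.1 ^ r.2 = 1 := by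
  refine eq_of_units fun n hn => ?_
  rw [← ev_powWord, ev_gen_mulVec (rels_below r (List.dropLast_subset _ hr)), wordV_dec]
  have h := List.all_eq_true.1 (List.all_eq_true.1 rels_fix r hr) n hn
  exact (congrArg dec (Nat.eq_of_beq_eq_true h)).trans (one_mulVec _).symm

theorem dec_two : ∀ n ∈ units, dec (2 * n) = -dec n := by decide +kernel

theorem gen_last : ev gen [0, 1, 2, 3, 4, 5, 8, 6] ^ 15 = negOne := by
  refine eq_of_units fun n hn => ?_
  rw [← ev_powWord, ev_gen_mulVec (rels_below ([0, 1, 2, 3, 4, 5, 8, 6], 15) (by rw [relsK_eq]; simp)), wordV_dec]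
  have h := List.all_eq_true.1 last_neg n hn
  rw [Nat.eq_of_beq_eq_true h, dec_two n hn, mat_negOne, neg_mulVec, one_mulVec]

/-- The reflections modulo the scalars. -/
def genQ (i : ℕ) : Iso8Q := mkQ (gen i)

theorem genQ_sat : Sat 9 relsK genQ where
  sq x := by rw [genQ, ← map_mul, gen_sq, map_one]
  out x hx := by rw [genQ, gen, if_neg (Nat.not_lt.2 hx), map_one]
  rel r hr := by
    show ev (fun i => mkQ (gen i)) r.1 ^ r.2 = 1
    rw [← map_ev mkQ, ← map_pow]
    rw [relsK_eq, List.mem_append, List.mem_singleton] at hr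
    rcases hr with hr | rfl
    · rw [gen_rel hr, map_one]
    · rw [gen_last]
      exact (QuotientGroup.eq_one_iff _).2 (mem_scal.2 (Or.inr rfl))

/-- The group. -/
abbrev PK := Pres 9 relsK

/-- The map to the isometries modulo scalars. -/
def phiQ : PK →* Iso8Q := presHom genQ_sat

theorem phiQ_gen (i : ℕ) : phiQ (presGen 9 relsK i) = genQ i := presHom_gen genQ_sat i

theorem braid_list : ∀ e ∈ [(0, 1), (1, 2), (2, 3), (3, 4), (4, 5), (2, 6), (6, 7), (5, 8)],
    ([e.1, e.2], 3) ∈ relsO8 := by decide +kernel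

theorem pair_mem_omega (i j : ℕ) (hi : i < 9) (hj : j < 9) : gen i * gen j ∈ Cfsg.Omega (ZMod 3) qf := by
  show gen i * gen j ∈ commutator Iso8
  rw [← Abelianization.ker_of, MonoidHom.mem_ker, map_mul]
  let a : ℕ → Abelianization Iso8 := fun k => Abelianization.of (gen k)
  have hsq : ∀ k, a k * a k = 1 := fun k => by simp only [a, ← map_mul, gen_sq k, map_one]
  have hbr : ∀ e ∈ [(0, 1), (1, 2), (2, 3), (3, 4), (4, 5), (2, 6), (6, 7), (5, 8)], a e.1 = a e.2 := fun e he => by
    have h3 := gen_rel (braid_list e he)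
    simp only [ev, List.map_cons, List.map_nil, List.prod_cons, List.prod_nil, mul_one] at h3
    have h3' := congrArg Abelianization.of h3
    rw [map_pow, map_mul, map_one] at h3'
    change (a e.1 * a e.2) ^ (2 + 1) = 1 at h3'
    have h2 : (a e.1 * a e.2) ^ 2 = 1 := by rw [sq, mul_mul_mul_comm, hsq, hsq, one_mul]
    rw [pow_succ, h2, one_mul] at h3'
    calc a e.1 = a e.1 * (a e.2 * a e.2) := by rw [hsq, mul_one]
      _ = a e.1 * a e.2 * a e.2 := (mul_assoc _ _ _).symm
      _ = a e.2 := by rw [h3', one_mul]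
  have e1 := hbr (0, 1) (by decide); have e2 := hbr (1, 2) (by decide); have e3 := hbr (2, 3) (by decide)
  have e4 := hbr (3, 4) (by decide); have e5 := hbr (4, 5) (by decide); have e6 := hbr (2, 6) (by decide)
  have e7 := hbr (6, 7) (by decide); have e8 := hbr (5, 8) (by decide)
  simp only at e1 e2 e3 e4 e5 e6 e7 e8
  have all : ∀ k < 9, a k = a 0 := fun k hk => by
    interval_cases k <;> simp only [← e8, ← e7, ← e6, ← e5, ← e4, ← e3, ← e2, ← e1]
  show a i * a j = 1
  rw [all i hi, all j hj, hsq]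

theorem det_gen {i : ℕ} (hi : i < 9) : (mat (gen i)).det = -1 := by
  rw [gen, if_pos hi]
  exact CfsgLib.Orth.det_refl qf_nd (refl_spec i).2 (root_ne i)

theorem det_omega_eq {g : Iso8} (hg : g ∈ Cfsg.Omega (ZMod 3) qf) : (mat g).det = 1 := by
  have h := Abelianization.commutator_subset_ker
    (Matrix.GeneralLinearGroup.det.comp (Cfsg.isometryGroup (ZMod 3) qf).subtype) hg
  rw [MonoidHom.mem_ker, MonoidHom.comp_apply] at h
  have h' := congrArg Units.val h
  rw [Matrix.GeneralLinearGroup.val_det_apply, Units.val_one] at h'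
  exact h'

theorem det_negOne : (mat negOne).det = 1 := by
  rw [mat_negOne, det_neg, det_one, mul_one, show Fintype.card Ix = 2 * 4 from rfl, pow_mul, neg_one_sq, one_pow]

theorem gen_ne {i : ℕ} (hi : i < 9) : gen i ∉ scal ⊔ Cfsg.Omega (ZMod 3) qf := by
  intro h
  rw [← SetLike.mem_coe, Subgroup.normal_mul] at h
  obtain ⟨s, hs, o, ho, e⟩ := h
  have hd := det_gen hi
  rw [← e, show mat (s * o) = mat s * mat o from rfl, det_mul, det_omega_eq ho, mul_one] at hd
  rcases mem_scal.1 hs with rfl | rfl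
  · rw [show mat (1 : Iso8) = 1 from rfl, det_one] at hd
    exact absurd hd (by decide)
  · rw [det_negOne] at hd
    exact absurd hd (by decide)

/-- The root is sent to every vector of norm two. -/
theorem exists_move {v : Vec} (hv : qf v = 2) :
    ∃ g ∈ Subgroup.closure (gen '' Set.Iio 9), mat g *ᵥ root 0 = v := by
  induction hn : tRank (enc v) using Nat.strong_induction_on generalizing v with
  | _ n ih =>
    rcases tree_spec hv with rfl | ⟨hl, hr⟩
    · exact ⟨1, one_mem _, one_mulVec _⟩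
    set l := tLet (enc v)
    have hq : qf (step l v) = 2 := by
      rw [← gen_mulVec hl, CfsgLib.Perm.Trans.Quad.mem_iso.1 (gen l).2 v, hv]
    obtain ⟨g, hg, e⟩ := ih _ (hn ▸ hr) hq rfl
    refine ⟨gen l * g, mul_mem (Subgroup.subset_closure ⟨l, hl, rfl⟩) hg, ?_⟩
    rw [show mat (gen l * g) = mat (gen l) * mat g from rfl, ← mulVec_mulVec, e, ← gen_mulVec hl, mulVec_mulVec,
      show mat (gen l) * mat (gen l) = mat (gen l * gen l) from rfl, gen_sq, show mat (1 : Iso8) = 1 from rfl,
      one_mulVec]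

theorem gens_normal : (Subgroup.closure (gen '' Set.Iio 9)).Normal := by
  set R := Subgroup.closure (gen '' Set.Iio 9)
  have key : ∀ (k : Iso8) (i : ℕ), i < 9 → k * gen i * k⁻¹ ∈ R := by
    intro k i hi
    have hq : qf (mat k *ᵥ root i) = 2 := (CfsgLib.Perm.Trans.Quad.mem_iso.1 k.2 _).trans (qf_root i)
    obtain ⟨g, hg, e⟩ := exists_move hq
    have h1 : IsRefl qf (mat k *ᵥ root i) ((k.1 : GL Ix (ZMod 3)) * refl i * (k.1)⁻¹) := (refl_spec i).2.conj k.2
    have h2 : IsRefl qf (mat g *ᵥ root 0) ((g.1 : GL Ix (ZMod 3)) * refl 0 * (g.1)⁻¹) := (refl_spec 0).2.conj g.2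
    rw [e] at h2
    have h4 : k * gen i * k⁻¹ = g * gen 0 * g⁻¹ := by
      rw [gen, gen, if_pos hi, if_pos (by norm_num : 0 < 9)]
      exact Subtype.ext (h1.unique h2)
    rw [h4]
    exact mul_mem (mul_mem hg (Subgroup.subset_closure ⟨0, by norm_num, rfl⟩)) (inv_mem hg)
  refine ⟨fun h hh k => ?_⟩
  induction hh using Subgroup.closure_induction with
  | mem x hx => obtain ⟨i, hi, rfl⟩ := hx; exact key k i hi
  | one => rw [mul_one, mul_inv_cancel]; exact one_mem _
  | mul x y _ _ ix iy => rw [show k * (x * y) * k⁻¹ = k * x * k⁻¹ * (k * y * k⁻¹) by group]; exact mul_mem ix iy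
  | inv x _ ix => rw [show k * x⁻¹ * k⁻¹ = (k * x * k⁻¹)⁻¹ by group]; exact inv_mem ix

theorem range_normal : phiQ.range.Normal := by
  have e : phiQ.range = (Subgroup.closure (gen '' Set.Iio 9)).map mkQ := by
    rw [phiQ, range_presHom, MonoidHom.map_closure, Set.image_image]
    rfl
  rw [e]
  exact gens_normal.map _ (QuotientGroup.mk'_surjective _)

/-- `PΩ` in the isometries modulo scalars. -/
def iota : Cfsg.POmega (ZMod 3) qf →* Iso8Q :=
  QuotientGroup.lift _ (mkQ.comp (Cfsg.Omega (ZMod 3) qf).subtype) fun z hz => by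
    rw [MonoidHom.mem_ker, MonoidHom.comp_apply, QuotientGroup.mk'_apply, QuotientGroup.eq_one_iff, mem_scal]
    rcases CfsgLib.Orth.omega_center_sign qf_nd (by simp) hz with e | e
    · exact Or.inl (Subtype.ext (Units.ext e))
    · exact Or.inr (Subtype.ext (Units.ext e))

theorem iota_injective : Function.Injective iota := by
  rw [injective_iff_map_eq_one]
  intro q hq
  obtain ⟨x, rfl⟩ := QuotientGroup.mk'_surjective _ q
  have hx : (x : Iso8) ∈ scal := (QuotientGroup.eq_one_iff _).1 hq
  refine (QuotientGroup.eq_one_iff x).2 (Subgroup.mem_center_iff.2 fun y => Subtype.ext ?_)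
  show (y : Iso8) * x = x * y
  rcases mem_scal.1 hx with e | e <;> rw [e]
  · rw [mul_one, one_mul]
  · exact negOne_comm _

theorem iota_range : iota.range = (Cfsg.Omega (ZMod 3) qf).map mkQ := by
  ext y
  constructor
  · rintro ⟨q, rfl⟩
    obtain ⟨x, rfl⟩ := QuotientGroup.mk'_surjective _ q
    exact ⟨x, x.2, rfl⟩
  · rintro ⟨x, hx, rfl⟩
    exact ⟨QuotientGroup.mk ⟨x, hx⟩, rfl⟩

instance iota_range_normal : iota.range.Normal := by
  rw [iota_range]
  exact Subgroup.Normal.map inferInstance _ (QuotientGroup.mk'_surjective _)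

theorem pair_mem_range {i j : ℕ} (hi : i < 9) (hj : j < 9) : genQ i * genQ j ∈ iota.range := by
  rw [iota_range, genQ, genQ, ← map_mul]
  exact ⟨_, pair_mem_omega i j hi hj, rfl⟩

theorem genQ_not_mem {i : ℕ} (hi : i < 9) : genQ i ∉ iota.range := by
  rw [iota_range]
  intro h
  refine gen_ne hi ?_
  have h' : gen i ∈ ((Cfsg.Omega (ZMod 3) qf).map mkQ).comap mkQ := h
  rwa [Subgroup.comap_map_eq, QuotientGroup.ker_mk', sup_comm] at h'

theorem pomega_simple : IsSimpleGroup (Cfsg.POmega (ZMod 3) qf) := pomega_isSimple qf_nd (by simp)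

theorem iota_le : iota.range ≤ phiQ.range := by
  haveI := pomega_simple
  haveI := range_normal
  rcases (inferInstance : (phiQ.range.comap iota).Normal).eq_bot_or_eq_top with h | h
  · exfalso
    obtain ⟨q, hq⟩ := pair_mem_range (i := 0) (j := 1) (by norm_num) (by norm_num)
    have hq1 : q ∈ phiQ.range.comap iota := by
      rw [Subgroup.mem_comap, hq]
      exact ⟨presGen 9 relsK 0 * presGen 9 relsK 1, by rw [map_mul, phiQ_gen, phiQ_gen]⟩
    rw [h, Subgroup.mem_bot] at hq1
    subst hq1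
    rw [map_one] at hq
    have hs : gen 0 * gen 1 ∈ scal := (QuotientGroup.eq_one_iff _).1 (by rw [hq, genQ, genQ, ← map_mul]; rfl)
    have hw := fun n => ev_gen_mulVec (w := [0, 1]) (by simp) (dec n)
    rw [show ev gen [0, 1] = gen 0 * gen 1 by simp [ev]] at hw
    rcases mem_scal.1 hs with e | e
    · have hb : ∃ n ∈ units, wordC [0, 1] n ≠ n ∧ enc (dec n) = n := by decide +kernel
      obtain ⟨n, -, hn, hn'⟩ := hb
      have := hw n
      rw [e, show mat (1 : Iso8) = 1 from rfl, one_mulVec, wordV_dec] at this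
      refine hn ?_
      have h2 := congrArg enc this
      rw [hn'] at h2
      exact ((show enc (dec (wordC [0, 1] n)) = wordC [0, 1] n from by
        show enc (dec (enc _)) = enc _
        rw [dec_enc]) ▸ h2).symm
    · have hb : ∃ n ∈ units, enc (dec (wordC [0, 1] n)) ≠ enc (-dec n) := by decide +kernel
      obtain ⟨n, -, hn⟩ := hb
      have := hw n
      rw [e, mat_negOne, neg_mulVec, one_mulVec, wordV_dec] at this
      exact hn (congrArg enc this).symm
  · intro y hy
    obtain ⟨q, rfl⟩ := hy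
    exact Subgroup.mem_comap.1 (h ▸ Subgroup.mem_top q)

end

end CfsgLib.Spor.Fi23Plus
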