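/-
The presented group on nine generators is PΩ⁺₈(3) extended by one reflection: its even part, the trivial centre, and
the subgroup on eight of the generators.
-/
import Cfsg.Agent.Lib.Spor.Fi23Plus.Reflect
import Cfsg.Agent.Lib.Spor.Fi23Plus.CK.All
import Cfsg.Agent.Lib.Spor.Fi23.Cover
import Cfsg.Agent.Lib.Classical.QuadOrder

set_option autoImplicit false

namespace CfsgLib.Spor.Fi23Plus

open CfsgLib.Spor.TC CfsgLib.Perm.Trans.Quad Matrix Cfsg.Geo CfsgLib.Spor.Fi23

noncomputable section

theorem card_relsO_le : Nat.card (Pres 8 relsO) ≠ 0 ∧ Nat.card (Pres 8 relsO) ≤ 9170703360 := by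
  have h1 := CD.cosetCert.card_le (rels' := relsD4) (l := 4) (by decide) (by decide +kernel) CD4.cosetCert.card_le_bot
  have h2 := CE6.cosetCert.card_le (rels' := relsD) (l := 5) (by decide) (by decide +kernel) h1
  have h3 := CE.cosetCert.card_le (rels' := relsE6) (l := 6) (by decide) (by decide +kernel) h2
  have h4 := CO.cosetCert.card_le (rels' := relsE) (l := 7) (by decide) (by decide +kernel) h3
  exact ⟨h4.1, h4.2.trans (by decide +kernel)⟩

theorem card_PK_le : Nat.card PK ≠ 0 ∧ Nat.card PK ≤ 9904359628800 := by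
  have h := CK.cosetCert.card_le (rels' := relsO) (l := 8) (by decide) (by decide +kernel) card_relsO_le
  exact ⟨h.1, h.2.trans (by decide +kernel)⟩

instance : Finite PK := Nat.finite_of_card_ne_zero card_PK_le.1

/-- The generators. -/
abbrev kg (i : ℕ) : PK := presGen 9 relsK i

theorem kg_sq (i : ℕ) : kg i * kg i = 1 := (sat_presGen 9 relsK).sq i

/-- Every generator to the nontrivial element of order two. -/
def signGen (i : ℕ) : Multiplicative (ZMod 2) := if i < 9 then Multiplicative.ofAdd 1 else 1

theorem signGen_sat : Sat 9 relsK signGen where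
  sq x := by
    unfold signGen
    split <;> decide
  out x hx := by rw [signGen, if_neg (Nat.not_lt.2 hx)]
  rel r hr := by
    revert r
    decide +kernel

/-- The parity. -/
def sign : PK →* Multiplicative (ZMod 2) := presHom signGen_sat

theorem sign_gen {i : ℕ} (hi : i < 9) : sign (kg i) = Multiplicative.ofAdd 1 := by
  rw [sign, presHom_gen, signGen, if_pos hi]

theorem zmod2_cases (a : Multiplicative (ZMod 2)) : a = 1 ∨ a = Multiplicative.ofAdd 1 := by
  revert a; decide

/-- The even part. -/
def even : Subgroup PK := sign.ker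

theorem mem_even {p : PK} : p ∈ even ↔ sign p = 1 := MonoidHom.mem_ker

theorem kg_not_even {i : ℕ} (hi : i < 9) : kg i ∉ even := by
  rw [mem_even, sign_gen hi]; decide

theorem mul_mem_even {i : ℕ} (hi : i < 9) {p : PK} : kg i * p ∈ even ↔ p ∉ even := by
  rw [mem_even, mem_even, map_mul, sign_gen hi]
  rcases zmod2_cases (sign p) with e | e <;> rw [e] <;> decide

theorem pair_even {i j : ℕ} (hi : i < 9) (hj : j < 9) : kg i * kg j ∈ even :=
  (mul_mem_even hi).2 (kg_not_even hj)

/-- Even or a generator times even. -/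
theorem phiQ_shape (p : PK) : (p ∈ even ∧ phiQ p ∈ iota.range) ∨ (p ∉ even ∧ phiQ (kg 0 * p) ∈ iota.range) := by
  have hp : p ∈ Subgroup.closure (presGen 9 relsK '' Set.Iio 9) := by
    rw [closure_presGen]; exact Subgroup.mem_top p
  have hstep : ∀ x ∈ presGen 9 relsK '' Set.Iio 9, ∀ y : PK,
      ((y ∈ even ∧ phiQ y ∈ iota.range) ∨ (y ∉ even ∧ phiQ (kg 0 * y) ∈ iota.range)) →
      ((x * y ∈ even ∧ phiQ (x * y) ∈ iota.range) ∨ (x * y ∉ even ∧ phiQ (kg 0 * (x * y)) ∈ iota.range)) := by
    rintro _ ⟨i, hi, rfl⟩ y (⟨hy, hy'⟩ | ⟨hy, hy'⟩)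
    · refine Or.inr ⟨fun h => (mul_mem_even hi).1 h hy, ?_⟩
      rw [← mul_assoc, map_mul, map_mul, phiQ_gen, phiQ_gen]
      exact mul_mem (pair_mem_range (by norm_num) hi) hy'
    · refine Or.inl ⟨(mul_mem_even hi).2 hy, ?_⟩
      have e : kg i * y = kg i * kg 0 * (kg 0 * y) := by
        rw [mul_assoc, ← mul_assoc (kg 0), kg_sq, one_mul]
      show phiQ (kg i * y) ∈ iota.range
      rw [e, map_mul, map_mul, phiQ_gen, phiQ_gen]
      exact mul_mem (pair_mem_range hi (by norm_num)) hy'
  induction hp using Subgroup.closure_induction_left with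
  | one => exact Or.inl ⟨one_mem _, by rw [map_one]; exact one_mem _⟩
  | mul_left x hx y _ ih => exact hstep x hx y ih
  | inv_mul_cancel x hx y _ ih =>
    obtain ⟨i, hi, rfl⟩ := hx
    rw [inv_eq_of_mul_eq_one_right (kg_sq i)]
    exact hstep _ ⟨i, hi, rfl⟩ y ih

theorem phiQ_even {p : PK} (hp : p ∈ even) : phiQ p ∈ iota.range :=
  (phiQ_shape p).elim (fun h => h.2) fun h => absurd hp h.1

theorem phiQ_odd {p : PK} (hp : p ∉ even) : phiQ p ∉ iota.range := by
  intro h
  have h2 := ((phiQ_shape p).resolve_left fun h' => hp h'.1).2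
  rw [map_mul, phiQ_gen, (iota.range.mul_mem_cancel_right h)] at h2
  exact genQ_not_mem (by norm_num) h2

theorem even_iff {p : PK} : p ∈ even ↔ phiQ p ∈ iota.range :=
  ⟨phiQ_even, fun h => by_contra fun hp => phiQ_odd hp h⟩

theorem negOne_mem_omega : negOne ∈ Cfsg.Omega (ZMod 3) qf := by
  rw [← gen_last]
  refine pow_mem ?_ 15
  have e : ev gen [0, 1, 2, 3, 4, 5, 8, 6] =
      gen 0 * gen 1 * (gen 2 * gen 3) * (gen 4 * gen 5) * (gen 8 * gen 6) := by
    simp only [ev, List.map_cons, List.map_nil, List.prod_cons, List.prod_nil, mul_one, mul_assoc]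
  rw [e]
  exact mul_mem (mul_mem (mul_mem (pair_mem_omega _ _ (by norm_num) (by norm_num))
    (pair_mem_omega _ _ (by norm_num) (by norm_num))) (pair_mem_omega _ _ (by norm_num) (by norm_num)))
    (pair_mem_omega _ _ (by norm_num) (by norm_num))

theorem card_qf : Nat.card (Cfsg.POmega (ZMod 3) qf) = 4952179814400 := by
  have h := CfsgLib.Orth.card_pomega_mul qf_nd (by simp) (Or.inl (by rw [ZMod.card 3]; norm_num))
  rw [CfsgLib.Orth.card_center_omega_of_mem qf_nd (by simp) two_ne ⟨negOne, negOne_mem_omega, mat_negOne⟩,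
    CfsgLib.Orth.card_sqClass_odd two_ne,
    show Nat.card (Cfsg.isometryGroup (ZMod 3) qf) = _ from CfsgLib.Classical.card_iso_plus (F := ZMod 3) 3,
    ZMod.card] at h
  norm_num [Finset.prod_range_succ] at h
  omega

/-- The map of the even part onto `PΩ`. -/
def evenMap : even →* iota.range := (phiQ.comp even.subtype).codRestrict _ fun p => phiQ_even p.2

theorem evenMap_surjective : Function.Surjective evenMap := by
  rintro ⟨a, ha⟩
  obtain ⟨p, hp⟩ := iota_le ha
  exact ⟨⟨p, even_iff.2 (hp ▸ ha)⟩, Subtype.ext hp⟩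

theorem card_iota : Nat.card iota.range = 4952179814400 := by
  rw [← Nat.card_congr (MonoidHom.ofInjective iota_injective).toEquiv, card_qf]

theorem even_index : even.index = 2 := by
  rw [even, Subgroup.index_ker, MonoidHom.range_eq_top.2, Subgroup.card_top, Nat.card_eq_fintype_card]
  · rfl
  · intro a
    rcases zmod2_cases a with rfl | rfl
    · exact ⟨1, map_one _⟩
    · exact ⟨kg 0, sign_gen (by norm_num)⟩

theorem card_even_le : Nat.card even ≤ 4952179814400 := by
  have h := even.card_mul_index
  rw [even_index] at h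
  have := card_PK_le.2
  omega

theorem evenMap_bijective : Function.Bijective evenMap :=
  evenMap_surjective.bijective_of_nat_card_le (card_iota ▸ card_even_le)

theorem card_PK : Nat.card PK = 9904359628800 := by
  rw [← even.card_mul_index, even_index, Nat.card_congr (Equiv.ofBijective _ evenMap_bijective), card_iota]

theorem phiQ_injective : Function.Injective phiQ := by
  rw [injective_iff_map_eq_one]
  intro p hp
  have he : p ∈ even := even_iff.2 (by rw [hp]; exact one_mem _)
  have := evenMap_bijective.1 (a₁ := ⟨p, he⟩) (a₂ := 1) (Subtype.ext (by rw [map_one]; exact hp))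
  exact congrArg Subtype.val this

/-- The even part is `PΩ`. -/
def evenEquiv : even ≃* Cfsg.POmega (ZMod 3) qf :=
  (MulEquiv.ofBijective evenMap evenMap_bijective).trans (MonoidHom.ofInjective iota_injective).symm

end

end CfsgLib.Spor.Fi23Plus
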