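/-
The presented group on nine generators has trivial centre: an isometry commuting with the reflections up to scalars
is a scalar.
-/
import Cfsg.Agent.Lib.Spor.Fi23Plus.Iso

set_option autoImplicit false

namespace CfsgLib.Spor.Fi23Plus

open CfsgLib.Spor.TC CfsgLib.Perm.Trans.Quad Matrix Cfsg.Geo

noncomputable section

/-- The coefficients of the unit vectors in the roots. -/
def coeff : List (List (ZMod 3)) := [[0, 0, 0, 1, 2, 0, 0, 2, 1], [0, 2, 2, 2, 1, 0, 0, 0, 0],
  [2, 0, 2, 2, 1, 0, 0, 2, 2], [0, 0, 1, 2, 0, 0, 0, 2, 2], [0, 0, 2, 1, 2, 0, 1, 1, 2], [0, 0, 0, 2, 2, 1, 0, 1, 1],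
  [1, 0, 2, 1, 0, 1, 0, 0, 0], [0, 0, 2, 2, 2, 2, 1, 2, 0]]

theorem units_comb : ∀ j : Fin 8, dec (units.getD j 0) =
    ∑ i : Fin 9, ((coeff.getD j []).getD i 0) • root i := by decide +kernel

theorem units_index : ∀ n ∈ units, ∃ j : Fin 8, units.getD j 0 = n := by decide +kernel

theorem three_cases : ∀ b : ZMod 3, b = 0 ∨ b = 1 ∨ b = 2 := by decide

theorem sq_cases : ∀ a : ZMod 3, a ^ 2 * 2 = 2 → a = 1 ∨ a = -1 := by decide

theorem solve_scalar : ∀ p q r a b : ZMod 3, -(p - a * r) = p - b * q → p = 2 * b * q + 2 * a * r := by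
  decide +kernel

theorem neg_ne_self : ∀ v : ZMod 3, v ≠ 0 → -v ≠ v := by decide

theorem neg_root_ne : enc (-root 0) ≠ enc (root 0) := by decide +kernel

theorem refl_conj_eq {k : Iso8} {i : ℕ} (hi : i < 9) (hk : k * gen i * k⁻¹ = gen i) :
    mat k *ᵥ root i = root i ∨ mat k *ᵥ root i = -root i := by
  have h1 : IsRefl qf (mat k *ᵥ root i) ((k.1 : GL Ix (ZMod 3)) * refl i * (k.1)⁻¹) := (refl_spec i).2.conj k.2
  have hk' : (k.1 : GL Ix (ZMod 3)) * refl i * (k.1)⁻¹ = refl i := by
    have := congrArg Subtype.val hk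
    rw [gen, if_pos hi] at this
    exact this
  rw [hk'] at h1
  set u := mat k *ᵥ root i with hu
  have hqu : qf u = 2 := (CfsgLib.Perm.Trans.Quad.mem_iso.1 k.2 _).trans (qf_root i)
  have e1 := h1 (root i)
  rw [(refl_spec i).2 (root i), qf_root, pself qf_nd, qf_root, hqu] at e1
  have e2 : ((2 : ZMod 3)⁻¹ * QuadraticMap.polar qf (root i) u) • u = ((2 : ZMod 3)⁻¹ * (2 * 2)) • root i := by
    rw [sub_right_inj] at e1; exact e1.symm
  rw [show (2 : ZMod 3)⁻¹ * (2 * 2) = 2 by decide +kernel] at e2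
  generalize (2 : ZMod 3)⁻¹ * QuadraticMap.polar qf (root i) u = b at e2
  have hb : b = 0 ∨ b = 1 ∨ b = 2 := three_cases b
  rcases hb with rfl | rfl | rfl
  · exfalso
    rw [zero_smul] at e2
    have h := congrArg qf e2.symm
    rw [qsmul qf_nd, qf_root, show qf 0 = 0 by decide +kernel] at h
    exact absurd h (by decide)
  · refine Or.inr ?_
    rw [one_smul] at e2
    rw [e2, show (2 : ZMod 3) = -1 by decide, neg_one_smul]
  · left
    have := congrArg (fun x => (2 : ZMod 3) • x) e2
    simp only [smul_smul, show (2 : ZMod 3) * 2 = 1 by decide, one_smul] at this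
    exact this

theorem not_neg_conj {k : Iso8} {i : ℕ} (hi : i < 9) : k * gen i * k⁻¹ ≠ negOne * gen i := by
  intro hk
  have h1 : IsRefl qf (mat k *ᵥ root i) ((k.1 : GL Ix (ZMod 3)) * refl i * (k.1)⁻¹) := (refl_spec i).2.conj k.2
  have hk' : (k.1 : GL Ix (ZMod 3)) * refl i * (k.1)⁻¹ = -refl i := by
    have := congrArg Subtype.val hk
    rw [gen, if_pos hi] at this
    exact this.trans (neg_one_mul _)
  rw [hk'] at h1
  set u := mat k *ᵥ root i
  have hall : ∀ x : Vec, x ∈ Submodule.span (ZMod 3) ({u, root i} : Set Vec) := by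
    intro x
    have e := h1 x
    rw [Units.val_neg, neg_mulVec, (refl_spec i).2 x] at e
    generalize (qf (root i))⁻¹ * QuadraticMap.polar qf x (root i) = a at e
    generalize (qf u)⁻¹ * QuadraticMap.polar qf x u = b at e
    have e2 : x = ((2 : ZMod 3) * b) • u + ((2 : ZMod 3) * a) • root i := by
      funext j
      have := congrFun e j
      simp only [Pi.neg_apply, Pi.sub_apply, Pi.smul_apply, Pi.add_apply, smul_eq_mul] at this ⊢
      exact solve_scalar _ _ _ _ _ this
    exact Submodule.mem_span_pair.2 ⟨_, _, e2.symm⟩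
  have htop : Submodule.span (ZMod 3) ({u, root i} : Set Vec) = ⊤ := eq_top_iff.2 fun x _ => hall x
  have hf := finrank_span_finset_le_card (R := ZMod 3) ({u, root i} : Finset Vec)
  rw [Set.finrank, Finset.coe_pair, htop, finrank_top, Module.finrank_fintype_fun_eq_card] at hf
  have := hf.trans Finset.card_le_two
  simp at this

theorem polar_edges : ∀ e ∈ [(0, 1), (1, 2), (2, 3), (3, 4), (4, 5), (2, 6), (6, 7), (5, 8)],
    QuadraticMap.polar qf (root e.1) (root e.2) ≠ 0 := by decide +kernel

/-- The centre is trivial. -/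
theorem centre_trivial {p : PK} (hp : ∀ i, i < 9 → Commute p (kg i)) : p = 1 := by
  refine phiQ_injective ?_
  rw [map_one]
  obtain ⟨k, hk⟩ := QuotientGroup.mk'_surjective scal (phiQ p)
  rw [← hk]
  have hc : ∀ i, i < 9 → k * gen i * k⁻¹ = gen i := by
    intro i hi
    have h := congrArg phiQ (hp i hi).eq
    rw [map_mul, map_mul, phiQ_gen, ← hk, genQ, ← map_mul, ← map_mul] at h
    have hm : k * gen i * k⁻¹ * (gen i)⁻¹ ∈ scal := by
      rw [← QuotientGroup.ker_mk' scal, MonoidHom.mem_ker, map_mul, map_mul]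
      rw [show mkQ (k * gen i) = mkQ (gen i * k) from h, map_mul, map_inv, map_inv, mul_inv_cancel_right,
        mul_inv_cancel]
    rcases mem_scal.1 hm with e | e
    · exact mul_inv_eq_one.1 e
    · exact absurd (mul_inv_eq_iff_eq_mul.1 e) (not_neg_conj hi)
  have hs := fun i hi => refl_conj_eq (k := k) hi (hc i hi)
  have hedge : ∀ e ∈ [(0, 1), (1, 2), (2, 3), (3, 4), (4, 5), (2, 6), (6, 7), (5, 8)], e.1 < 9 → e.2 < 9 →
      (mat k *ᵥ root e.1 = root e.1 ↔ mat k *ᵥ root e.2 = root e.2) := by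
    intro e he h1 h2
    have hp0 := polar_edges e he
    have hpol : QuadraticMap.polar qf (mat k *ᵥ root e.1) (mat k *ᵥ root e.2) =
        QuadraticMap.polar qf (root e.1) (root e.2) := iso_pol k.2 _ _
    constructor <;> intro h
    · refine (hs e.2 h2).resolve_right fun h' => neg_ne_self _ hp0 ?_
      rw [h, h', pneg_right qf_nd] at hpol
      exact hpol
    · refine (hs e.1 h1).resolve_right fun h' => neg_ne_self _ hp0 ?_
      rw [h, h', pneg_left qf_nd] at hpol
      exact hpol
  have e1 := hedge (0, 1) (by decide) (by norm_num) (by norm_num)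
  have e2 := hedge (1, 2) (by decide) (by norm_num) (by norm_num)
  have e3 := hedge (2, 3) (by decide) (by norm_num) (by norm_num)
  have e4 := hedge (3, 4) (by decide) (by norm_num) (by norm_num)
  have e5 := hedge (4, 5) (by decide) (by norm_num) (by norm_num)
  have e6 := hedge (2, 6) (by decide) (by norm_num) (by norm_num)
  have e7 := hedge (6, 7) (by decide) (by norm_num) (by norm_num)
  have e8 := hedge (5, 8) (by decide) (by norm_num) (by norm_num)
  simp only at e1 e2 e3 e4 e5 e6 e7 e8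
  have all : ∀ i, i < 9 → (mat k *ᵥ root 0 = root 0 ↔ mat k *ᵥ root i = root i) := by
    intro i hi
    interval_cases i
    exacts [Iff.rfl, e1, e1.trans e2, (e1.trans e2).trans e3, ((e1.trans e2).trans e3).trans e4,
      (((e1.trans e2).trans e3).trans e4).trans e5, (e1.trans e2).trans e6, ((e1.trans e2).trans e6).trans e7,
      ((((e1.trans e2).trans e3).trans e4).trans e5).trans e8]
  obtain ⟨a, ha⟩ : ∃ a : ZMod 3, ∀ i, i < 9 → mat k *ᵥ root i = a • root i := by
    rcases hs 0 (by norm_num) with h | h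
    · exact ⟨1, fun i hi => by rw [one_smul]; exact (all i hi).1 h⟩
    · refine ⟨-1, fun i hi => ?_⟩
      rw [neg_one_smul]
      refine (hs i hi).resolve_left fun h' => ?_
      have h0 : -root 0 = root 0 := h.symm.trans ((all i hi).2 h')
      exact neg_root_ne (congrArg enc h0)
  have hall : ∀ n ∈ units, mat k *ᵥ dec n = a • dec n := by
    intro n hn
    obtain ⟨j, rfl⟩ := units_index n hn
    rw [units_comb, mulVec_sum, Finset.smul_sum]
    refine Finset.sum_congr rfl fun i _ => ?_
    rw [mulVec_smul, ha i i.2, smul_comm]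
  have ha2 : a = 1 ∨ a = -1 := by
    have h0 := CfsgLib.Perm.Trans.Quad.mem_iso.1 k.2 (root 0)
    rw [ha 0 (by norm_num), qsmul qf_nd, qf_root] at h0
    exact sq_cases a h0
  refine (QuotientGroup.eq_one_iff k).2 (mem_scal.2 ?_)
  rcases ha2 with rfl | rfl
  · exact Or.inl (eq_of_units fun n hn => by rw [hall n hn, one_smul]; exact (one_mulVec _).symm)
  · exact Or.inr (eq_of_units fun n hn => by rw [hall n hn, mat_negOne, neg_one_smul, neg_mulVec, one_mulVec])

end

end CfsgLib.Spor.Fi23Plus
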