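/-
The presented group on nine generators inside the presented Fi23, and the three classes of points it permutes.
-/
import Cfsg.Agent.Lib.Spor.Fi23Plus.Centre
import Cfsg.Agent.Lib.Spor.Fi23Plus.Points
import Cfsg.Agent.Lib.Spor.Fi23Out.Points

set_option autoImplicit false

namespace CfsgLib.Spor.Fi23Plus

open CfsgLib.Spor.TC CfsgLib.Spor.Fi23 CfsgLib.Spor.Fi23Out MulAction

noncomputable section

attribute [local instance] actionF

/-- The numbers of the nine generators among the ten. -/
def embK (i : ℕ) : ℕ := [1, 2, 3, 4, 5, 6, 8, 9, 7].getD i 1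

theorem embK_lt (i : ℕ) : embK i < 10 := by
  by_cases h : i < 9
  · exact (show ∀ j < 9, embK j < 10 by decide) i h
  · rw [embK, List.getD_eq_default _ _ (by simpa using Nat.le_of_not_lt h)]; norm_num

/-- All the letters of a word are at most ten. -/
theorem below11 {w : List ℕ} (hw : ∀ x ∈ w, x < 11) : ∀ x ∈ w, x < ActF.act.K :=
  fun x hx => lt_of_lt_of_le (hw x hx) (show 11 ≤ ActF.act.K by decide +kernel)

/-- An element is determined by the images of ten points. -/
theorem el_eq_of_pts {w w' : List ℕ} (hw : ∀ x ∈ w, x < 11) (hw' : ∀ x ∈ w', x < 11)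
    (h : ∀ c < 10, ActF.act.wact w (ptN c) = ActF.act.wact w' (ptN c)) : el w = el w' := by
  refine inv_mul_eq_one.1 (commute_gens fun c hc => ?_)
  rw [mul_smul, inv_smul_eq_iff]
  exact Fin.ext ((el_smul (below11 hw') (gpt c)).trans ((h c hc).symm.trans (el_smul (below11 hw) (gpt c)).symm))

theorem el_nil : el [] = 1 := rfl

theorem el_append (u v : List ℕ) : el (u ++ v) = el u * el v := ev_append _ u v

theorem el_single (x : ℕ) : el [x] = let' x := by simp [el, ev, let']

/-- The image of a generator. -/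
def kImg (i : ℕ) : Gp := if i < 9 then let' (embK i) else 1

theorem el_map {w : List ℕ} (hw : ∀ x ∈ w, x < 9) : el (w.map embK) = ev kImg w := by
  induction w with
  | nil => rfl
  | cons a w ih =>
    rw [List.map_cons, el, ev_cons, ev_cons, ← ih fun x hx => hw x (List.mem_cons_of_mem _ hx), kImg,
      if_pos (hw a List.mem_cons_self)]
    rfl

theorem map_below {w : List ℕ} : ∀ x ∈ w.map embK, x < 11 := by
  intro x hx
  obtain ⟨i, -, rfl⟩ := List.mem_map.1 hx
  exact (embK_lt i).trans (by norm_num)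

theorem rels_fix_pts : relsK.all (fun r => (List.range 10).all fun c =>
    Nat.beq (ActF.act.wact ((powWord r.1 r.2).map embK) (ptN c)) (ptN c)) = true := by decide +kernel

theorem kImg_sat : Sat 9 relsK kImg where
  sq x := by
    unfold kImg
    split
    · exact let_sq (embK_lt x)
    · exact one_mul 1
  out x hx := by rw [kImg, if_neg (Nat.not_lt.2 hx)]
  rel r hr := by
    rw [← ev_powWord, ← el_map (rels_below r hr), ← el_nil]
    refine el_eq_of_pts map_below (by simp) fun c hc => ?_
    exact Nat.eq_of_beq_eq_true (List.all_eq_true.1 (List.all_eq_true.1 rels_fix_pts r hr) c (List.mem_range.2 hc))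

/-- The map into the presented Fi23. -/
def phi : PK →* Gp := presHom kImg_sat

theorem phi_kg {i : ℕ} (hi : i < 9) : phi (kg i) = el [embK i] := by
  rw [phi, presHom_gen, kImg, if_pos hi, el_single]

theorem phi_ev {w : List ℕ} (hw : ∀ x ∈ w, x < 9) : phi (ev kg w) = el (w.map embK) := by
  rw [el_map hw, map_ev]
  exact ev_congr fun x _ => presHom_gen kImg_sat x

theorem sign_ev {w : List ℕ} (hw : ∀ x ∈ w, x < 9) : sign (ev kg w) = Multiplicative.ofAdd (w.length : ZMod 2) := by
  induction w with
  | nil => simp [ev]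
  | cons a w ih =>
    rw [ev_cons, map_mul, sign_gen (hw a List.mem_cons_self), ih fun x hx => hw x (List.mem_cons_of_mem _ hx),
      ← ofAdd_add, List.length_cons, Nat.cast_add, Nat.cast_one, add_comm]

theorem ev_even {w : List ℕ} (hw : ∀ x ∈ w, x < 9) (h : w.length % 2 = 0) : ev kg w ∈ even := by
  rw [mem_even, sign_ev hw, ← ZMod.natCast_mod, h, Nat.cast_zero, ofAdd_zero]

theorem ev_odd {w : List ℕ} (hw : ∀ x ∈ w, x < 9) (h : w.length % 2 = 1) : ev kg w ∉ even := by
  rw [mem_even, sign_ev hw, ← ZMod.natCast_mod, h, Nat.cast_one]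
  decide

/-- The even part is generated by the pairs. -/
theorem even_le {A : Subgroup PK} (hA : ∀ i, i < 9 → kg 0 * kg i ∈ A) : even ≤ A := by
  have main : ∀ p : PK, (p ∈ even → p ∈ A) ∧ (p ∉ even → kg 0 * p ∈ A) := by
    intro p
    have hp : p ∈ Subgroup.closure (presGen 9 relsK '' Set.Iio 9) := by
      rw [closure_presGen]; exact Subgroup.mem_top p
    have hstep : ∀ x ∈ presGen 9 relsK '' Set.Iio 9, ∀ y : PK,
        ((y ∈ even → y ∈ A) ∧ (y ∉ even → kg 0 * y ∈ A)) →
        ((x * y ∈ even → x * y ∈ A) ∧ (x * y ∉ even → kg 0 * (x * y) ∈ A)) := by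
      rintro _ ⟨i, hi, rfl⟩ y ⟨h1, h2⟩
      refine ⟨fun h => ?_, fun h => ?_⟩
      · have e : kg i * y = (kg 0 * kg i)⁻¹ * (kg 0 * y) := by
          rw [mul_inv_rev, inv_eq_of_mul_eq_one_right (kg_sq i), inv_eq_of_mul_eq_one_right (kg_sq 0), mul_assoc,
            ← mul_assoc (kg 0), kg_sq, one_mul]
        show kg i * y ∈ A
        rw [e]
        exact mul_mem (inv_mem (hA i hi)) (h2 ((mul_mem_even hi).1 h))
      · rw [← mul_assoc]
        exact mul_mem (hA i hi) (h1 (by_contra fun hy => h ((mul_mem_even hi).2 hy)))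
    induction hp using Subgroup.closure_induction_left with
    | one => exact ⟨fun _ => one_mem _, fun h => absurd (one_mem _) h⟩
    | mul_left x hx y _ ih => exact hstep x hx y ih
    | inv_mul_cancel x hx y _ ih =>
      obtain ⟨i, hi, rfl⟩ := hx
      rw [inv_eq_of_mul_eq_one_right (kg_sq i)]
      exact hstep _ ⟨i, hi, rfl⟩ y ih
  exact fun p hp => (main p).1 hp

theorem eq_one_of_commute {p z : PK} (hz : z ∉ even) (hpz : Commute p z) (h : ∀ e ∈ even, Commute p e) : p = 1 := by
  refine centre_trivial fun i hi => ?_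
  have he : kg i * z ∈ even := (mul_mem_even hi).2 hz
  have := (h _ he).mul_right hpz.inv_right
  rwa [mul_inv_cancel_right] at this

theorem even_simple : IsSimpleGroup even := by
  haveI := pomega_simple
  exact evenEquiv.isSimpleGroup

theorem pair_img_ne : (List.range 10).any (fun c => !(Nat.beq (ActF.act.wact [1, 2] (ptN c)) (ptN c))) = true := by
  decide +kernel

theorem phi_injective : Function.Injective phi := by
  rw [← MonoidHom.ker_eq_bot_iff]
  haveI := even_simple
  rcases (inferInstance : (phi.ker.subgroupOf even).Normal).eq_bot_or_eq_top with h | h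
  · refine (Subgroup.eq_bot_iff_forall _).2 fun n hn => ?_
    have key : ∀ m ∈ phi.ker, m ∈ even → m = 1 := fun m hm hme => by
      have : (⟨m, hme⟩ : even) ∈ phi.ker.subgroupOf even := hm
      rw [h, Subgroup.mem_bot] at this
      exact congrArg Subtype.val this
    by_cases hne : n ∈ even
    · exact key n hn hne
    refine eq_one_of_commute hne (Commute.refl n) fun e he => ?_
    have h1 : n * e * n⁻¹ * e⁻¹ ∈ phi.ker := by
      rw [MonoidHom.mem_ker, map_mul, map_mul, map_mul, map_inv, map_inv, MonoidHom.mem_ker.1 hn]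
      simp
    have h2 : n * e * n⁻¹ * e⁻¹ ∈ even := by
      rw [mem_even, map_mul, map_mul, map_mul, map_inv, map_inv, mem_even.1 he]
      simp
    exact mul_inv_eq_iff_eq_mul.1 (mul_inv_eq_one.1 (key _ h1 h2))
  · exfalso
    have hm : (⟨kg 0 * kg 1, pair_even (by norm_num) (by norm_num)⟩ : even) ∈ phi.ker.subgroupOf even :=
      h ▸ Subgroup.mem_top _
    have hm' : phi (ev kg [0, 1]) = 1 := by
      have : ev kg [0, 1] = kg 0 * kg 1 := by simp [ev]
      rw [this]; exact hm
    rw [phi_ev (by simp)] at hm'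
    obtain ⟨c, hc, hne⟩ := List.any_eq_true.1 pair_img_ne
    have hfix := el_smul (w := [1, 2]) (below11 (by simp)) (gpt c)
    rw [show el [1, 2] = 1 from hm', one_smul] at hfix
    have hb : Nat.beq (ActF.act.wact [1, 2] (ptN c)) (ptN c) = true := by
      rw [← show ptN c = ActF.act.wact [1, 2] (ptN c) from hfix]
      exact Nat.beq_refl _
    rw [hb] at hne
    exact absurd hne (by decide)

/-- The class of a point, as a number. -/
def clsN (c : ℕ) : ℕ := clsTbl.get 2 c

theorem clsN_lt (c : ℕ) : clsN c < 4 := by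
  unfold clsN Tbl.get
  exact lt_of_le_of_lt Nat.and_le_right (by decide +kernel)

/-- The class of a point. -/
def cls (p : Pt) : Fin 4 := ⟨clsN p, clsN_lt p⟩

/-- Extension of a permutation of three classes fixing the fourth. -/
def extCls (σ : Equiv.Perm (Fin 3)) (i : Fin 4) : Fin 4 :=
  if h : (i : ℕ) < 3 then Fin.castSucc (σ ⟨i, h⟩) else i

theorem extCls_mul : ∀ (σ τ : Equiv.Perm (Fin 3)) (i : Fin 4), extCls (σ * τ) i = extCls σ (extCls τ i) := by
  decide +kernel

theorem extCls_one : ∀ i : Fin 4, extCls 1 i = i := by decide +kernel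

theorem extCls_inj : ∀ σ τ : Equiv.Perm (Fin 3), (∀ i : Fin 3, extCls σ i.castSucc = extCls τ i.castSucc) → σ = τ := by
  decide +kernel

/-- The element permutes the classes by this permutation. -/
def Moves (g : Gp) (σ : Equiv.Perm (Fin 3)) : Prop := ∀ p : Pt, cls (g • p) = extCls σ (cls p)

theorem moves_one : Moves 1 1 := fun p => by rw [one_smul, extCls_one]

theorem moves_mul {g h : Gp} {σ τ : Equiv.Perm (Fin 3)} (hg : Moves g σ) (hh : Moves h τ) : Moves (g * h) (σ * τ) :=
  fun p => by rw [mul_smul, hg, hh, extCls_mul]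

theorem moves_inv {g : Gp} {σ : Equiv.Perm (Fin 3)} (hg : Moves g σ) : Moves g⁻¹ σ⁻¹ := fun p => by
  have h := hg (g⁻¹ • p)
  rw [smul_inv_smul] at h
  rw [h, ← extCls_mul, inv_mul_cancel, extCls_one]

/-- The class behaviour of the nine letters at a point. -/
def clsStep (c : ℕ) : Bool :=
  allFrom (fun i => Nat.beq (clsN (ActF.act.T (embK i) c)) ([0, 2, 1, 3].getD (clsN c) 3)) 0 9

theorem cls_0 : allFrom clsStep 0 8000 = true := by decide +kernel
theorem cls_1 : allFrom clsStep 8000 8000 = true := by decide +kernel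
theorem cls_2 : allFrom clsStep 16000 8000 = true := by decide +kernel
theorem cls_3 : allFrom clsStep 24000 7671 = true := by decide +kernel

theorem clsStep_all (c : ℕ) (hc : c < 31671) : clsStep c = true := by
  rcases (show c < 8000 ∨ (8000 ≤ c ∧ c < 16000) ∨ (16000 ≤ c ∧ c < 24000) ∨ 24000 ≤ c by omega) with h | h | h | h
  · exact allFrom_spec cls_0 c (Nat.zero_le _) (by omega)
  · exact allFrom_spec cls_1 c h.1 (by omega)
  · exact allFrom_spec cls_2 c h.1 (by omega)
  · exact allFrom_spec cls_3 c h (by omega)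

theorem swap12_tbl : ∀ i : Fin 4, ((extCls (Equiv.swap 1 2) i : Fin 4) : ℕ) = [0, 2, 1, 3].getD i 3 := by decide +kernel

theorem moves_let {i : ℕ} (hi : i < 9) : Moves (el [embK i]) (Equiv.swap 1 2) := fun p => by
  apply Fin.ext
  rw [swap12_tbl]
  have h := allFrom_spec (clsStep_all p p.2) i (Nat.zero_le _) (by omega)
  rw [show ((cls (el [embK i] • p) : Fin 4) : ℕ) = clsN (ActF.act.T (embK i) p) from congrArg clsN (by
    rw [el_single]; exact let_smul (lt_of_lt_of_le (embK_lt i) (by decide +kernel)) p)]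
  exact Nat.eq_of_beq_eq_true h

/-- The permutation of classes of a parity. -/
def classPerm (a : Multiplicative (ZMod 2)) : Equiv.Perm (Fin 3) := if a = 1 then 1 else Equiv.swap 1 2

theorem classPerm_mul : ∀ a b, classPerm (a * b) = classPerm a * classPerm b := by decide +kernel

theorem moves_phi (p : PK) : Moves (phi p) (classPerm (sign p)) := by
  have hp : p ∈ Subgroup.closure (presGen 9 relsK '' Set.Iio 9) := by
    rw [closure_presGen]; exact Subgroup.mem_top p
  induction hp using Subgroup.closure_induction with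
  | mem x hx =>
    obtain ⟨i, hi, rfl⟩ := hx
    rw [phi_kg hi, sign_gen hi]
    exact moves_let hi
  | one => rw [map_one, map_one]; exact moves_one
  | mul x y _ _ hx hy => rw [map_mul, map_mul, classPerm_mul]; exact moves_mul hx hy
  | inv x _ hx =>
    rw [map_inv, map_inv, show classPerm (sign x)⁻¹ = (classPerm (sign x))⁻¹ from
      (show ∀ a, classPerm a⁻¹ = (classPerm a)⁻¹ by decide +kernel) _]
    exact moves_inv hx

/-- The tree is right at a point. -/
def forestOK (c : ℕ) : Bool :=
  Nat.beq c 0 || Nat.beq c 23118 || Nat.beq c 11 ||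
    (Nat.blt (Nat.land (ptTree.get 12 c) 15) 9 &&
      Nat.blt (Nat.shiftRight (ptTree.get 12 (ActF.act.T (embK (Nat.land (ptTree.get 12 c) 15)) c)) 4)
        (Nat.shiftRight (ptTree.get 12 c) 4))

theorem forest_0 : allFrom forestOK 0 10000 = true := by decide +kernel
theorem forest_1 : allFrom forestOK 10000 10000 = true := by decide +kernel
theorem forest_2 : allFrom forestOK 20000 11671 = true := by decide +kernel

theorem forest_all (c : ℕ) (hc : c < 31671) : forestOK c = true := by
  rcases (show c < 10000 ∨ (10000 ≤ c ∧ c < 20000) ∨ 20000 ≤ c by omega) with h | h | h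
  · exact allFrom_spec forest_0 c (Nat.zero_le _) (by omega)
  · exact allFrom_spec forest_1 c h.1 (by omega)
  · exact allFrom_spec forest_2 c h (by omega)

/-- Every point comes from one of three. -/
theorem exists_root (p : Pt) : ∃ k : PK, ∃ r : Pt, ((r : ℕ) = 0 ∨ (r : ℕ) = 23118 ∨ (r : ℕ) = 11) ∧ phi k • r = p := by
  induction hn : Nat.shiftRight (ptTree.get 12 p) 4 using Nat.strong_induction_on generalizing p with
  | _ n ih =>
    have h := forest_all p p.2
    rw [forestOK] at h
    simp only [Bool.or_eq_true, Bool.and_eq_true] at h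
    rcases h with ((h | h) | h) | ⟨h1, h2⟩
    · exact ⟨1, p, Or.inl (Nat.eq_of_beq_eq_true h), by rw [map_one, one_smul]⟩
    · exact ⟨1, p, Or.inr (Or.inl (Nat.eq_of_beq_eq_true h)), by rw [map_one, one_smul]⟩
    · exact ⟨1, p, Or.inr (Or.inr (Nat.eq_of_beq_eq_true h)), by rw [map_one, one_smul]⟩
    set l := Nat.land (ptTree.get 12 p) 15
    have hl : l < 9 := Nat.le_of_ble_eq_true h1
    have e : ((phi (kg l) • p : Pt) : ℕ) = ActF.act.T (embK l) p := by
      rw [phi_kg hl, el_single]; exact let_smul (lt_of_lt_of_le (embK_lt l) (by decide +kernel)) p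
    obtain ⟨k, r, hr, hk⟩ := ih _ (hn ▸ (by rw [e]; exact Nat.le_of_ble_eq_true h2)) (phi (kg l) • p) rfl
    refine ⟨kg l * k, r, hr, ?_⟩
    rw [map_mul, mul_smul, hk, ← mul_smul, ← map_mul, kg_sq, map_one, one_smul]

theorem cls_roots : clsN 0 = 0 ∧ clsN 23118 = 1 ∧ clsN 11 = 3 := by decide +kernel

/-- The root by the class. -/
theorem exists_root_cls (p : Pt) : ∃ k : PK, ∃ r : Pt, phi k • r = p ∧
    ((cls p = 0 ∧ (r : ℕ) = 0) ∨ ((cls p = 1 ∨ cls p = 2) ∧ (r : ℕ) = 23118) ∨ (cls p = 3 ∧ (r : ℕ) = 11)) := by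
  obtain ⟨k, r, hr, hk⟩ := exists_root p
  refine ⟨k, r, hk, ?_⟩
  have hm := moves_phi k r
  rw [hk] at hm
  have hp : classPerm (sign k) = 1 ∨ classPerm (sign k) = Equiv.swap 1 2 := by
    unfold classPerm; split <;> simp
  rcases hr with hr | hr | hr
  · refine Or.inl ⟨?_, hr⟩
    rw [hm, show cls r = 0 from Fin.ext ((congrArg clsN hr).trans cls_roots.1)]
    rcases hp with e | e <;> rw [e] <;> decide +kernel
  · refine Or.inr (Or.inl ⟨?_, hr⟩)
    rw [hm, show cls r = 1 from Fin.ext ((congrArg clsN hr).trans cls_roots.2.1)]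
    rcases hp with e | e <;> rw [e]
    · left; decide +kernel
    · right; decide +kernel
  · refine Or.inr (Or.inr ⟨?_, hr⟩)
    rw [hm, show cls r = 3 from Fin.ext ((congrArg clsN hr).trans cls_roots.2.2)]
    rcases hp with e | e <;> rw [e] <;> decide +kernel

end

end CfsgLib.Spor.Fi23Plus
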