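/-
The subgroup PΩ⁺₈(3):S₃ of the presented Fi23: generated by the nine generators and one more transposition, acting on
three classes of 1080 points.
-/
import Cfsg.Agent.Lib.Spor.Fi23Plus.Embed

set_option autoImplicit false

namespace CfsgLib.Spor.Fi23Plus

open CfsgLib.Spor.TC CfsgLib.Spor.Fi23 CfsgLib.Spor.Fi23Out MulAction

noncomputable section

attribute [local instance] actionF

/-- The word of the further transposition. -/
def xw : List ℕ := xu ++ 10 :: xu.reverse

/-- The further transposition. -/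
def xel : Gp := el xw

theorem xw_lt : ∀ x ∈ xw, x < 11 := by decide +kernel

theorem xu_lt : ∀ x ∈ xu, x < 10 := by decide +kernel

theorem su_lt : ∀ x ∈ su, x < 10 := by decide +kernel

theorem sw_lt : ∀ x ∈ su ++ 10 :: su.reverse, x < 11 := by decide +kernel

/-- The point of the further transposition. -/
def xpt : Pt := ⟨23118, by decide +kernel⟩

/-- A point of the last class. -/
def spt : Pt := ⟨11, by decide +kernel⟩

theorem xu_pt : ActF.act.wact xu 0 = 23118 ∧ ActF.act.wact su 0 = 11 := by decide +kernel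

theorem trp_xpt : trp xpt = xel := trp_word xu_lt xu_pt.1

theorem trp_spt : trp spt = el (su ++ 10 :: su.reverse) := trp_word su_lt xu_pt.2

theorem xel_def : xel = el xw := rfl

theorem xel_sq : xel * xel = 1 := trp_xpt ▸ trp_sq xpt

/-- The first generator. -/
def ael : Gp := phi (kg 0)

theorem ael_eq : ael = el [1] := phi_kg (by norm_num)

theorem ael_def : ael = phi (kg 0) := rfl

theorem ael_sq : ael * ael = 1 := by rw [ael, ← map_mul, kg_sq, map_one]

theorem ael_trp : ael = trp (gpt 1) := by rw [ael_eq, el_single, letters_trp 1 (by norm_num)]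

theorem el_of_bool {w w' : List ℕ} (hw : ∀ x ∈ w, x < 11) (hw' : ∀ x ∈ w', x < 11)
    (h : (List.range 10).all (fun c => Nat.beq (ActF.act.wact w (ptN c)) (ActF.act.wact w' (ptN c))) = true) :
    el w = el w' :=
  el_eq_of_pts hw hw' fun c hc => Nat.eq_of_beq_eq_true (List.all_eq_true.1 h c (List.mem_range.2 hc))

theorem conj_check : (List.range 8).all (fun j => (List.range 10).all fun c =>
    Nat.beq (ActF.act.wact (xw ++ ([1, embK (j + 1)] ++ xw)) (ptN c))
      (ActF.act.wact ((conjWords.getD j []).map embK) (ptN c))) = true := by decide +kernel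

theorem conjWords_ok : ∀ j < 8, (conjWords.getD j []).length % 2 = 0 ∧
    (∀ x ∈ conjWords.getD j [], x < 9) ∧ (∀ x ∈ xw ++ ([1, embK (j + 1)] ++ xw), x < 11) := by decide +kernel

theorem braid_check : (List.range 10).all (fun c =>
    Nat.beq (ActF.act.wact ([1] ++ (xw ++ [1])) (ptN c)) (ActF.act.wact (xw ++ ([1] ++ xw)) (ptN c))) = true := by
  decide +kernel

theorem braid_lt : (∀ x ∈ [1] ++ (xw ++ [1]), x < 11) ∧ ∀ x ∈ xw ++ ([1] ++ xw), x < 11 := by decide +kernel

theorem axa : ael * xel * ael = xel * ael * xel := by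
  have h := el_of_bool braid_lt.1 braid_lt.2 braid_check
  simp only [el_append] at h
  simpa only [ael_eq, xel, mul_assoc] using h

attribute [local irreducible] phi el xel ael

/-- The even part inside Fi23. -/
def sub' : Subgroup Gp := even.map phi

theorem xel_conj {e : PK} (he : e ∈ even) : xel * phi e * xel⁻¹ ∈ sub' := by
  refine (show even ≤ sub'.comap ((MulAut.conj xel).toMonoidHom.comp phi) from even_le fun i hi => ?_) he
  show xel * phi (kg 0 * kg i) * xel⁻¹ ∈ sub'
  rcases Nat.eq_zero_or_pos i with rfl | hpos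
  · rw [kg_sq, map_one, mul_one, mul_inv_cancel]; exact one_mem _
  obtain ⟨j, rfl⟩ : ∃ j, i = j + 1 := ⟨i - 1, by omega⟩
  obtain ⟨h1, h2, h3⟩ := conjWords_ok j (by omega)
  have e1 := el_of_bool h3 (map_below (w := conjWords.getD j []))
    (List.all_eq_true.1 conj_check j (List.mem_range.2 (by omega)))
  rw [el_append, el_append, ← phi_ev h2, ← xel_def, show [1, embK (j + 1)] = [embK 0] ++ [embK (j + 1)] from rfl] at e1
  rw [inv_eq_of_mul_eq_one_right xel_sq, map_mul, phi_kg (by norm_num : 0 < 9), phi_kg hi, ← el_append, mul_assoc]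
  exact ⟨_, ev_even h2 h1, e1.symm⟩

theorem phi_conj {e : PK} (he : e ∈ even) (p : PK) : phi p * phi e * (phi p)⁻¹ ∈ sub' := by
  rw [← map_inv, ← map_mul, ← map_mul]
  exact ⟨_, (MonoidHom.normal_ker sign).conj_mem e he p, rfl⟩

/-- The subgroup. -/
def big : Subgroup Gp := Subgroup.closure (insert xel (phi '' (kg '' Set.Iio 9)))

theorem xel_mem : xel ∈ big := Subgroup.subset_closure (Set.mem_insert _ _)

theorem phi_mem (p : PK) : phi p ∈ big := by
  have hp : p ∈ Subgroup.closure (presGen 9 relsK '' Set.Iio 9) := by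
    rw [closure_presGen]; exact Subgroup.mem_top p
  have h : Subgroup.closure (presGen 9 relsK '' Set.Iio 9) ≤ big.comap phi :=
    (Subgroup.closure_le _).2 fun x hx => Subgroup.subset_closure (Set.mem_insert_of_mem _ ⟨x, hx, rfl⟩)
  exact h hp

theorem ael_mem : ael ∈ big := ael_def.symm ▸ phi_mem _

theorem sub'_le : sub' ≤ big := by rintro _ ⟨e, -, rfl⟩; exact phi_mem e

/-- The six representatives. -/
def six : List Gp := [1, ael, xel, ael * xel, xel * ael, ael * xel * ael]

theorem ael_six {s : Gp} (hs : s ∈ six) : ael * s ∈ six := by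
  simp only [six, List.mem_cons, List.not_mem_nil, or_false] at hs ⊢
  rcases hs with rfl | rfl | rfl | rfl | rfl | rfl <;>
    simp [mul_assoc, ← mul_assoc ael ael, ael_sq]

theorem xel_six {s : Gp} (hs : s ∈ six) : xel * s ∈ six := by
  simp only [six, List.mem_cons, List.not_mem_nil, or_false] at hs ⊢
  have h2 : xel * (ael * xel) = ael * xel * ael := by rw [← mul_assoc, axa]
  have h3 : xel * (ael * xel * ael) = ael * xel := by
    rw [axa, mul_assoc xel ael xel, ← mul_assoc, xel_sq, one_mul]
  rcases hs with rfl | rfl | rfl | rfl | rfl | rfl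
  · simp
  · simp
  · simp [xel_sq]
  · simp [h2]
  · simp [← mul_assoc, xel_sq]
  · simp [h3]

/-- Even part times a representative. -/
def Shape (g : Gp) : Prop := ∃ e ∈ even, ∃ s ∈ six, g = phi e * s

theorem shape_xel {g : Gp} (hg : Shape g) : Shape (xel * g) := by
  obtain ⟨e, he, s, hs, rfl⟩ := hg
  obtain ⟨e', he', hE⟩ := xel_conj he
  exact ⟨e', he', xel * s, xel_six hs, by rw [hE]; group⟩

theorem shape_kg {g : Gp} {i : ℕ} (hi : i < 9) (hg : Shape g) : Shape (phi (kg i) * g) := by
  obtain ⟨e, he, s, hs, rfl⟩ := hg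
  refine ⟨kg i * kg 0 * (kg 0 * e * (kg 0)⁻¹), mul_mem (pair_even hi (by norm_num))
    ((MonoidHom.normal_ker sign).conj_mem e he _), ael * s, ael_six hs, ?_⟩
  rw [ael_def, map_mul phi (kg i * kg 0), map_mul phi (kg i), map_mul, map_mul, map_inv]
  have h0 : phi (kg 0) * phi (kg 0) = 1 := by rw [← ael_def]; exact ael_sq
  simp only [mul_assoc, inv_mul_cancel_left]
  rw [← mul_assoc (phi (kg 0)) (phi (kg 0)), h0, one_mul]

theorem shape_of_mem {g : Gp} (hg : g ∈ big) : Shape g := by
  have hstep : ∀ x ∈ insert xel (phi '' (kg '' Set.Iio 9)), x * x = 1 ∧ ∀ y : Gp, Shape y → Shape (x * y) := by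
    rintro x (rfl | ⟨_, ⟨i, hi, rfl⟩, rfl⟩)
    · exact ⟨xel_sq, fun y => shape_xel⟩
    · exact ⟨by rw [← map_mul, kg_sq, map_one], fun y => shape_kg hi⟩
  induction hg using Subgroup.closure_induction_left with
  | one => exact ⟨1, one_mem _, 1, by simp [six], by rw [map_one, one_mul]⟩
  | mul_left x hx y _ ih => exact (hstep x hx).2 y ih
  | inv_mul_cancel x hx y _ ih =>
    rw [inv_eq_of_mul_eq_one_right (hstep x hx).1]
    exact (hstep x hx).2 y ih

theorem sub'_conj {g : Gp} (hg : g ∈ big) {k : Gp} (hk : k ∈ sub') : g * k * g⁻¹ ∈ sub' := by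
  have hx : ∀ k ∈ sub', xel * k * xel⁻¹ ∈ sub' := by rintro _ ⟨e, he, rfl⟩; exact xel_conj he
  have hp : ∀ (p : PK), ∀ k ∈ sub', phi p * k * (phi p)⁻¹ ∈ sub' := by rintro p _ ⟨e, he, rfl⟩; exact phi_conj he p
  have hall : ∀ g ∈ big, ∀ k ∈ sub', g * k * g⁻¹ ∈ sub' ∧ g⁻¹ * k * g ∈ sub' := by
    intro g hg
    induction hg using Subgroup.closure_induction with
    | mem x hx' =>
      rcases hx' with rfl | ⟨_, ⟨i, hi, rfl⟩, rfl⟩
      · exact fun k hk => ⟨hx k hk, by
          have := hx k hk; rwa [inv_eq_of_mul_eq_one_right xel_sq] at this ⊢⟩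
      · intro k hk
        refine ⟨hp _ k hk, ?_⟩
        have := hp (kg i)⁻¹ k hk
        rwa [map_inv, inv_inv] at this
    | one => exact fun k hk => ⟨by simpa using hk, by simpa using hk⟩
    | mul x y _ _ ix iy =>
      intro k hk
      refine ⟨?_, ?_⟩
      · rw [show x * y * k * (x * y)⁻¹ = x * (y * k * y⁻¹) * x⁻¹ by group]; exact (ix _ (iy k hk).1).1
      · rw [show (x * y)⁻¹ * k * (x * y) = y⁻¹ * (x⁻¹ * k * x) * y by group]; exact (iy _ (ix k hk).2).2
    | inv x _ ix => exact fun k hk => ⟨by rw [inv_inv]; exact (ix k hk).2, by rw [inv_inv]; exact (ix k hk).1⟩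
  exact (hall g hg k hk).1

/-- The class behaviour of the further transposition at a point of the three classes. -/
def xStep (c : ℕ) : Bool :=
  Bool.rec (Nat.beq (clsN (ActF.act.wact xw c)) ([2, 1, 0, 3].getD (clsN c) 3)) true (Nat.beq (clsN c) 3)

theorem xstep_0 : allFrom xStep 0 16000 = true := by decide +kernel
theorem xstep_1 : allFrom xStep 16000 15671 = true := by decide +kernel

theorem swap02_tbl : ∀ i : Fin 4, ((extCls (Equiv.swap 0 2) i : Fin 4) : ℕ) = [2, 1, 0, 3].getD i 3 := by decide +kernel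

theorem moves_xel : Moves xel (Equiv.swap 0 2) := by
  have hin : ∀ p : Pt, cls p ≠ 3 → cls (xel • p) = extCls (Equiv.swap 0 2) (cls p) := by
    intro p hp
    have h : xStep p = true := by
      rcases Nat.lt_or_ge (p : ℕ) 16000 with h | h
      · exact allFrom_spec xstep_0 p (Nat.zero_le _) (by omega)
      · exact allFrom_spec xstep_1 p h (by have := p.2; have : ActF.act.n = 31671 := rfl; omega)
    have hb : Nat.beq (clsN p) 3 = false := by
      rcases hb : Nat.beq (clsN p) 3
      · rfl
      · exact absurd (Fin.ext (Nat.eq_of_beq_eq_true hb) : cls p = 3) hp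
    rw [xStep, hb] at h
    apply Fin.ext
    rw [swap02_tbl, show ((cls (xel • p) : Fin 4) : ℕ) = clsN (ActF.act.wact xw p) from
      congrArg clsN (xel_def ▸ el_smul (below11 xw_lt) p)]
    exact Nat.eq_of_beq_eq_true h
  intro p
  by_cases hp : cls p = 3
  · by_cases hq : cls (xel • p) = 3
    · rw [hp, hq]; decide +kernel
    · exfalso
      have h2 := hin _ hq
      rw [← mul_smul, xel_sq, one_smul, hp] at h2
      exact hq ((show ∀ i : Fin 4, (3 : Fin 4) = extCls (Equiv.swap 0 2) i → i = 3 by decide +kernel) _ h2)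
  · exact hin p hp

theorem exists_moves {g : Gp} (hg : g ∈ big) : ∃ σ, Moves g σ := by
  induction hg using Subgroup.closure_induction with
  | mem x hx =>
    rcases hx with rfl | ⟨_, ⟨i, -, rfl⟩, rfl⟩
    · exact ⟨_, moves_xel⟩
    · exact ⟨_, moves_phi _⟩
  | one => exact ⟨1, moves_one⟩
  | mul x y _ _ ix iy => exact ⟨_, moves_mul ix.choose_spec iy.choose_spec⟩
  | inv x _ ix => exact ⟨_, moves_inv ix.choose_spec⟩

theorem moves_unique {g : Gp} {σ τ : Equiv.Perm (Fin 3)} (h : Moves g σ) (h' : Moves g τ) : σ = τ := by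
  refine extCls_inj σ τ fun i => ?_
  have hsurj : ∀ i : Fin 3, ∃ p : Pt, cls p = i.castSucc := by
    have h0 : cls pt0 = 0 := Fin.ext cls_roots.1
    have h1 : cls xpt = 1 := Fin.ext cls_roots.2.1
    have h2 : cls (el [embK 0] • xpt) = 2 := by
      rw [moves_let (by norm_num) xpt, h1]; decide +kernel
    intro i
    fin_cases i
    exacts [⟨_, h0⟩, ⟨_, h1⟩, ⟨_, h2⟩]
  obtain ⟨p, hp⟩ := hsurj i
  rw [← hp, ← h p, h' p]

/-- The permutation of the three classes. -/
def theta : big →* Equiv.Perm (Fin 3) where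
  toFun g := (exists_moves g.2).choose
  map_one' := moves_unique (exists_moves (1 : big).2).choose_spec moves_one
  map_mul' g h := moves_unique (exists_moves (g * h : big).2).choose_spec
    (moves_mul (exists_moves g.2).choose_spec (exists_moves h.2).choose_spec)

theorem theta_eq {g : big} {σ : Equiv.Perm (Fin 3)} (h : Moves g σ) : theta g = σ :=
  moves_unique (exists_moves g.2).choose_spec h

theorem theta_spec (g : big) : Moves g (theta g) := (exists_moves g.2).choose_spec

theorem theta_phi (p : PK) : theta ⟨phi p, phi_mem p⟩ = classPerm (sign p) := theta_eq (moves_phi p)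

theorem theta_surjective : Function.Surjective theta := by
  have ha : theta ⟨ael, ael_mem⟩ = Equiv.swap 1 2 := by
    rw [show (⟨ael, ael_mem⟩ : big) = ⟨phi (kg 0), phi_mem _⟩ from Subtype.ext ael_def, theta_phi, sign_gen (by norm_num)]
    decide +kernel
  have hx : theta ⟨xel, xel_mem⟩ = Equiv.swap 0 2 := theta_eq moves_xel
  intro σ
  have h : σ = 1 ∨ σ = Equiv.swap 1 2 ∨ σ = Equiv.swap 0 2 ∨ σ = Equiv.swap 1 2 * Equiv.swap 0 2 ∨
      σ = Equiv.swap 0 2 * Equiv.swap 1 2 ∨ σ = Equiv.swap 1 2 * Equiv.swap 0 2 * Equiv.swap 1 2 := by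
    revert σ; decide +kernel
  rcases h with rfl | rfl | rfl | rfl | rfl | rfl
  · exact ⟨1, map_one _⟩
  · exact ⟨_, ha⟩
  · exact ⟨_, hx⟩
  · exact ⟨⟨ael, ael_mem⟩ * ⟨xel, xel_mem⟩, by rw [map_mul, ha, hx]⟩
  · exact ⟨⟨xel, xel_mem⟩ * ⟨ael, ael_mem⟩, by rw [map_mul, ha, hx]⟩
  · exact ⟨⟨ael, ael_mem⟩ * ⟨xel, xel_mem⟩ * ⟨ael, ael_mem⟩, by rw [map_mul, map_mul, ha, hx]⟩

theorem six_moves {s : Gp} (hs : s ∈ six) (h : Moves s 1) : s = 1 := by
  have ha : Moves ael (Equiv.swap 1 2) := by
    rw [ael_eq]; exact moves_let (i := 0) (by norm_num)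
  have hx := moves_xel
  simp only [six, List.mem_cons, List.not_mem_nil, or_false] at hs
  rcases hs with rfl | rfl | rfl | rfl | rfl | rfl
  · rfl
  · exact absurd (moves_unique ha h) (by decide +kernel)
  · exact absurd (moves_unique hx h) (by decide +kernel)
  · exact absurd (moves_unique (moves_mul ha hx) h) (by decide +kernel)
  · exact absurd (moves_unique (moves_mul hx ha) h) (by decide +kernel)
  · exact absurd (moves_unique (moves_mul (moves_mul ha hx) ha) h) (by decide +kernel)

theorem theta_ker : theta.ker = sub'.subgroupOf big := by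
  ext ⟨g, hg⟩
  rw [MonoidHom.mem_ker, Subgroup.mem_subgroupOf]
  constructor
  · intro h
    obtain ⟨e, he, s, hs, rfl⟩ := shape_of_mem hg
    have h1 : Moves (phi e * s) 1 := h ▸ theta_spec ⟨_, hg⟩
    have h2 : Moves s 1 := by
      have h0 : Moves (phi e) 1 := by
        have := moves_phi e
        rwa [mem_even.1 he, show classPerm 1 = 1 from if_pos rfl] at this
      have := moves_mul (moves_inv h0) h1
      rwa [inv_mul_cancel_left, inv_one, one_mul] at this
    exact ⟨e, he, by show phi e = phi e * s; rw [six_moves hs h2, mul_one]⟩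
  · rintro ⟨e, he, rfl⟩
    refine theta_eq ?_
    have := moves_phi e
    rwa [mem_even.1 he, show classPerm 1 = 1 from if_pos rfl] at this

/-- An element commuting with a swap of classes is in the part on nine generators. -/
theorem mem_range_of_theta {g : big} (h : theta g = 1 ∨ theta g = Equiv.swap 1 2) : (g : Gp) ∈ phi.range := by
  rcases h with h | h
  · obtain ⟨e, -, he⟩ := (theta_ker ▸ MonoidHom.mem_ker.2 h : g ∈ sub'.subgroupOf big)
    exact ⟨e, he⟩
  · have h2 : theta (g * ⟨ael, ael_mem⟩) = 1 := by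
      rw [map_mul, h, show (⟨ael, ael_mem⟩ : big) = ⟨phi (kg 0), phi_mem _⟩ from Subtype.ext ael_def, theta_phi,
        sign_gen (by norm_num)]
      decide +kernel
    obtain ⟨e, -, he⟩ := (theta_ker ▸ MonoidHom.mem_ker.2 h2 : g * ⟨ael, ael_mem⟩ ∈ sub'.subgroupOf big)
    refine ⟨e * (kg 0)⁻¹, ?_⟩
    have he' : phi e = (g : Gp) * ael := he
    rw [map_mul, map_inv, he', ael_def, mul_inv_cancel_right]

theorem commute_swap : ∀ σ : Equiv.Perm (Fin 3), σ * Equiv.swap 1 2 = Equiv.swap 1 2 * σ →
    σ = 1 ∨ σ = Equiv.swap 1 2 := by decide +kernel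

/-- The word of the central transposition. -/
def zw : List ℕ := powWord [0, 1, 2, 3, 4, 5, 6] 9

theorem zw_lt : ∀ x ∈ zw, x < 9 := by decide +kernel

theorem zw_odd : zw.length % 2 = 1 := by decide +kernel

theorem zw_check : (List.range 10).all (fun c =>
    Nat.beq (ActF.act.wact (zw.map embK) (ptN c)) (ActF.act.wact [10] (ptN c))) = true := by decide +kernel

theorem phi_zw : phi (ev kg zw) = zee := by
  rw [phi_ev zw_lt, el_of_bool map_below (by simp) zw_check, el_single]
  rfl

theorem zee_mem : zee ∈ big := phi_zw ▸ phi_mem _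

theorem cent_zee {g : Gp} (hg : g ∈ big) (h : Commute g zee) : g ∈ phi.range := by
  refine mem_range_of_theta (g := ⟨g, hg⟩) (commute_swap _ ?_)
  have e : theta ⟨zee, zee_mem⟩ = Equiv.swap 1 2 := by
    refine theta_eq ?_
    have := moves_phi (ev kg zw)
    rw [phi_zw, sign_ev zw_lt, ← ZMod.natCast_mod, zw_odd] at this
    exact this
  rw [← e, ← map_mul, ← map_mul]
  exact congrArg theta (Subtype.ext h.eq)

/-- Only the first point is fixed by the pairs. -/
def loneStep (c : ℕ) : Bool :=
  Nat.beq c 0 || (List.range 7).any (fun i => !(Nat.beq (ActF.act.wact [1, embK (i + 1)] c) c))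

theorem lone_0 : allFrom loneStep 0 16000 = true := by decide +kernel
theorem lone_1 : allFrom loneStep 16000 15671 = true := by decide +kernel
theorem pairs_fix : (List.range 7).all (fun i => Nat.beq (ActF.act.wact [1, embK (i + 1)] 0) 0) = true := by
  decide +kernel

/-- The even part has trivial centralizer. -/
theorem centralizer_sub' {g : Gp} (hg : g ∈ big) (h : ∀ k ∈ sub', Commute g k) : g = 1 := by
  have hw : ∀ i, i < 7 → ∀ x ∈ [1, embK (i + 1)], x < 11 := fun i _ x hx => by
    rcases List.mem_cons.1 hx with rfl | hx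
    · norm_num
    · rw [List.mem_singleton] at hx; subst hx; exact (embK_lt _).trans (by norm_num)
  have hk : ∀ i, i < 7 → el [1, embK (i + 1)] ∈ sub' := fun i hi =>
    ⟨ev kg [0, i + 1], ev_even (by simp; omega) (by simp), phi_ev (by simp; omega)⟩
  have hfix : g • pt0 = pt0 := by
    by_contra hne
    have hl : loneStep (g • pt0 : Pt) = true := by
      have := (g • pt0 : Pt).2
      have hn : ActF.act.n = 31671 := rfl
      rcases Nat.lt_or_ge ((g • pt0 : Pt) : ℕ) 16000 with h | h
      · exact allFrom_spec lone_0 _ (Nat.zero_le _) (by omega)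
      · exact allFrom_spec lone_1 _ h (by omega)
    rw [loneStep, Bool.or_eq_true] at hl
    rcases hl with hl | hl
    · exact hne (Fin.ext (Nat.eq_of_beq_eq_true hl))
    obtain ⟨i, hi, hb⟩ := List.any_eq_true.1 hl
    have hi' := List.mem_range.1 hi
    have e0 : el [1, embK (i + 1)] • pt0 = pt0 := Fin.ext ((el_smul (below11 (hw i hi')) pt0).trans
      (Nat.eq_of_beq_eq_true (List.all_eq_true.1 pairs_fix i hi)))
    have e1 : el [1, embK (i + 1)] • g • pt0 = g • pt0 := by
      rw [← mul_smul, ← (h _ (hk i hi')).eq, mul_smul, e0]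
    have e2 := (el_smul (below11 (hw i hi')) (g • pt0)).symm.trans (congrArg Fin.val e1)
    rw [e2, Nat.beq_refl] at hb
    exact absurd hb (by decide)
  have hz : Commute g zee := (commute_zee_iff g).2 hfix
  obtain ⟨p, rfl⟩ := cent_zee hg hz
  have hz' : Commute (phi p) (phi (ev kg zw)) := by rw [phi_zw]; exact hz
  have hp := eq_one_of_commute (p := p) (ev_odd zw_lt zw_odd) (Commute.of_map phi_injective hz')
    fun e he => Commute.of_map phi_injective (h _ (Subgroup.mem_map_of_mem phi he))
  rw [hp, map_one]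

end

end CfsgLib.Spor.Fi23Plus
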