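/-
The centralizer of the central transposition in the subgroup PΩ⁺₈(3):S₃ is a group of order two times PΩ₇(3).
-/
import Cfsg.Agent.Lib.Spor.Fi23Plus.Sub
import Cfsg.Agent.Lib.Spor.Fi22.O7.Iso

set_option autoImplicit false

namespace CfsgLib.Spor.Fi23Plus

open CfsgLib.Spor.TC CfsgLib.Spor.Fi23 CfsgLib.Spor.Fi23Out MulAction

noncomputable section

attribute [local instance] actionF

theorem relsO_sub7 : ∀ r ∈ relsO, r ∈ Fi22.relsO := by decide +kernel

/-- The map onto the group of the smaller Fischer group's relators. -/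
def toSeven : Pres 8 relsO →* Pres 8 Fi22.relsO :=
  presHom (g := presGen 8 Fi22.relsO) ⟨(sat_presGen 8 Fi22.relsO).sq, (sat_presGen 8 Fi22.relsO).out,
    fun r hr => (sat_presGen 8 Fi22.relsO).rel r (relsO_sub7 r hr)⟩

/-- The map onto `PΩ₇(3)`. -/
def piSeven : Pres 8 relsO →* Cfsg.POmega (ZMod 3) (Cfsg.quadFormOdd 3 (ZMod 3)) := Fi22.O7.psi.comp toSeven

theorem piSeven_surjective : Function.Surjective piSeven :=
  Fi22.O7.psi_bijective.2.comp (presHom_surjective _ (closure_presGen 8 Fi22.relsO))

theorem relsO_subK : ∀ r ∈ relsO, (r.1.map fun x => [0, 1, 2, 3, 4, 5, 6, 7].getD x 9, r.2) ∈ relsK := by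
  decide +kernel

/-- The eight generators in the group on nine. -/
def eight : Pres 8 relsO →* PK :=
  subHom (k := 9) (rels := relsK) (rels' := relsO) [0, 1, 2, 3, 4, 5, 6, 7] relsO_subK

/-- The group on eight generators. -/
abbrev sub8 : Subgroup PK := presSub 9 relsK [0, 1, 2, 3, 4, 5, 6, 7]

theorem range_eight : eight.range = sub8 := range_subHom relsO_subK

theorem eight_gen {i : ℕ} (hi : i < 8) : eight (presGen 8 relsO i) = kg i := by
  refine (presHom_gen (sat_sub (sat_presGen 9 relsK) [0, 1, 2, 3, 4, 5, 6, 7] relsO_subK) i).trans ?_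
  rw [subGen]
  interval_cases i <;> rfl

theorem card_eight : Nat.card (Pres 8 relsO) = 9170703360 ∧ Function.Injective eight := by
  haveI : Finite (Pres 8 relsO) := Nat.finite_of_card_ne_zero card_relsO_le.1
  have h1 := Nat.card_le_card_of_surjective _ eight.rangeRestrict_surjective
  have h2 := card_relsO_le.2
  have h3 := CK.cosetCert.index_le.2
  have h4 := sub8.index_mul_card
  rw [card_PK] at h4
  have h5 : 9170703360 ≤ Nat.card eight.range := by
    rw [range_eight]
    by_contra hlt
    have := Nat.mul_le_mul h3 (Nat.le_of_lt_succ (Nat.lt_succ_of_lt (not_le.1 hlt)))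
    have h6 : sub8.index * Nat.card sub8 < 1080 * 9170703360 :=
      lt_of_le_of_lt (Nat.mul_le_mul_right _ h3) (Nat.mul_lt_mul_of_pos_left (not_le.1 hlt) (by norm_num))
    omega
  refine ⟨by omega, fun u v e => ?_⟩
  exact ((MonoidHom.rangeRestrict_surjective eight).bijective_of_nat_card_le (by omega)).1 (Subtype.ext e)

theorem index_sub8 : sub8.index = 1080 := by
  have h := sub8.index_mul_card
  rw [card_PK, ← range_eight, ← Nat.card_congr (MonoidHom.ofInjective card_eight.2).toEquiv, card_eight.1] at h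
  have e : eight.range.index = 1080 :=
    Nat.eq_of_mul_eq_mul_right (show 0 < 9170703360 by norm_num) (h.trans (by norm_num))
  exact range_eight ▸ e

theorem eight_fix_check : (List.range 8).all (fun i => Nat.beq (ActF.act.wact [embK i] 0) 0) = true := by
  decide +kernel

theorem sub8_fix {p : PK} (hp : p ∈ sub8) : phi p • pt0 = pt0 := by
  induction hp using Subgroup.closure_induction with
  | mem x hx =>
    obtain ⟨i, hi, rfl⟩ := hx
    have hi8 : i < 8 := by
      simp only [List.mem_cons, List.not_mem_nil, or_false, Set.mem_setOf_eq] at hi; omega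
    rw [show presGen 9 relsK i = kg i from rfl, phi_kg (by omega)]
    refine Fin.ext ((el_smul (below11 ?_) pt0).trans
      (Nat.eq_of_beq_eq_true (List.all_eq_true.1 eight_fix_check i (List.mem_range.2 hi8))))
    intro x hx
    rw [List.mem_singleton] at hx
    subst hx
    exact (embK_lt i).trans (by norm_num)
  | one => rw [map_one, one_smul]
  | mul x y _ _ hx hy => rw [map_mul, mul_smul, hy, hx]
  | inv x _ hx => rw [map_inv, inv_smul_eq_iff, hx]

/-- The points of the first class. -/
def firstClass : List ℕ := (List.range 31671).filter fun c => Nat.beq (clsN c) 0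

theorem firstClass_length : firstClass.length = 1080 := by decide +kernel

/-- The stabilizer of the first point is the group on eight generators. -/
theorem fix_iff_sub8 (p : PK) : phi p • pt0 = pt0 ↔ p ∈ sub8 := by
  refine ⟨fun h => ?_, sub8_fix⟩
  letI : MulAction PK Pt := MulAction.compHom Pt phi
  have hle : sub8 ≤ stabilizer PK pt0 := fun q hq => sub8_fix hq
  have hidx : (stabilizer PK pt0).index = 1080 := by
    refine le_antisymm (index_sub8 ▸ Nat.le_of_dvd (by rw [index_sub8]; norm_num) (Subgroup.index_dvd_of_le hle)) ?_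
    rw [index_stabilizer]
    have hn : ActF.act.n = 31671 := rfl
    have hmem : ∀ c ∈ firstClass, ∃ q : Pt, (q : ℕ) = c ∧ q ∈ orbit PK pt0 := by
      intro c hc
      obtain ⟨hc1, hc2⟩ := List.mem_filter.1 hc
      refine ⟨⟨c, hn.symm ▸ List.mem_range.1 hc1⟩, rfl, ?_⟩
      obtain ⟨k, r, hk, h⟩ := exists_root_cls ⟨c, hn.symm ▸ List.mem_range.1 hc1⟩
      have h0 : cls ⟨c, hn.symm ▸ List.mem_range.1 hc1⟩ = 0 := Fin.ext (Nat.eq_of_beq_eq_true hc2)
      rcases h with ⟨-, hr⟩ | ⟨h | h, -⟩ | ⟨h, -⟩
      · refine ⟨k, ?_⟩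
        show phi k • pt0 = _
        rw [show pt0 = r from Fin.ext hr.symm, hk]
      all_goals exact absurd (h.symm.trans h0) (by decide)
    have hnd : firstClass.Nodup := (List.nodup_range).filter _
    rw [← firstClass_length, ← List.toFinset_card_of_nodup hnd]
    rw [Set.ncard_eq_toFinset_card _ (Set.toFinite _)]
    refine le_trans ?_ (Finset.card_image_le (f := fun q : Pt => (q : ℕ)))
    refine Finset.card_le_card fun c hc => ?_
    obtain ⟨q, rfl, hq⟩ := hmem c (List.mem_toFinset.1 hc)
    exact Finset.mem_image.2 ⟨q, (Set.Finite.mem_toFinset _).2 hq, rfl⟩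
  have he : sub8.relIndex (stabilizer PK pt0) = 1 := by
    have h2 := Subgroup.relIndex_mul_index hle
    rw [hidx, index_sub8] at h2
    omega
  exact Subgroup.relIndex_eq_one.1 he h

/-- The centralizer of the central transposition, as the group on eight generators. -/
def toCent : Pres 8 relsO →* ↥(big ⊓ Subgroup.centralizer ({zee} : Set Gp)) :=
  (phi.comp eight).codRestrict _ fun u => ⟨phi_mem _, Subgroup.mem_centralizer_singleton_iff.2
    ((commute_zee_iff _).2 (sub8_fix (range_eight ▸ ⟨u, rfl⟩))).eq⟩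

theorem toCent_bijective : Function.Bijective toCent := by
  refine ⟨fun u v h => card_eight.2 (phi_injective (congrArg Subtype.val h)), fun ⟨g, hg⟩ => ?_⟩
  obtain ⟨hg1, hg2⟩ := hg
  have hc : Commute g zee := Subgroup.mem_centralizer_singleton_iff.1 hg2
  obtain ⟨p, rfl⟩ := cent_zee hg1 hc
  have hp : p ∈ eight.range := range_eight ▸ (fix_iff_sub8 p).1 ((commute_zee_iff _).1 hc)
  obtain ⟨u, hu⟩ := hp
  exact ⟨u, Subtype.ext (congrArg phi hu)⟩

theorem wordZ_rel : ([0, 1, 2, 3, 4, 5, 6], 9) ∈ Fi22.relsO := by decide +kernel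

/-- The eight generated group splits. -/
theorem eight_split : Nonempty (Pres 8 relsO ≃*
    Multiplicative (ZMod 2) × Cfsg.POmega (ZMod 3) (Cfsg.quadFormOdd 3 (ZMod 3))) := by
  haveI : Finite (Pres 8 relsO) := Nat.finite_of_card_ne_zero card_relsO_le.1
  set F := (sign.comp eight).prod piSeven with hF
  let z := ev (presGen 8 relsO) [0, 1, 2, 3, 4, 5, 6] ^ 9
  have hz1 : sign (eight z) = Multiplicative.ofAdd 1 := by
    rw [map_pow, map_ev, ev_congr (g' := kg) fun x hx => eight_gen (by simp at hx; omega), map_pow,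
      sign_ev (by simp)]
    decide +kernel
  have hz2 : piSeven z = 1 := by
    have e : ∀ x, toSeven (presGen 8 relsO x) = presGen 8 Fi22.relsO x := fun x => presHom_gen _ x
    rw [piSeven, MonoidHom.comp_apply, map_pow toSeven, map_ev,
      ev_congr (g' := presGen 8 Fi22.relsO) fun x _ => e x,
      (sat_presGen 8 Fi22.relsO).rel _ wordZ_rel, map_one]
  have hsurj : Function.Surjective F := by
    rintro ⟨a, q⟩
    obtain ⟨u, rfl⟩ := piSeven_surjective q
    rcases zmod2_cases a with rfl | rfl <;> rcases zmod2_cases (sign (eight u)) with e | e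
    · exact ⟨u, Prod.ext e rfl⟩
    · refine ⟨u * z, Prod.ext ?_ ?_⟩
      · show sign (eight (u * z)) = 1
        rw [map_mul, map_mul, e, hz1]; decide
      · show piSeven (u * z) = piSeven u
        rw [map_mul, hz2, mul_one]
    · refine ⟨u * z, Prod.ext ?_ ?_⟩
      · show sign (eight (u * z)) = Multiplicative.ofAdd 1
        rw [map_mul, map_mul, e, hz1, one_mul]
      · show piSeven (u * z) = piSeven u
        rw [map_mul, hz2, mul_one]
    · exact ⟨u, Prod.ext e rfl⟩
  refine ⟨MulEquiv.ofBijective F (hsurj.bijective_of_nat_card_le ?_)⟩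
  rw [card_eight.1, Nat.card_prod, Fi22.O7.card_pomega, Nat.card_eq_fintype_card]
  rfl

/-- The centralizer of the central transposition. -/
theorem cent_zee_iso : Nonempty (↥(big ⊓ Subgroup.centralizer ({zee} : Set Gp)) ≃*
    Multiplicative (ZMod 2) × Cfsg.POmega (ZMod 3) (Cfsg.quadFormOdd 3 (ZMod 3))) := by
  obtain ⟨e⟩ := eight_split
  exact ⟨(MulEquiv.ofBijective toCent toCent_bijective).symm.trans e⟩

end

end CfsgLib.Spor.Fi23Plus
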