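/-
The subgroup PΩ⁺₈(3):S₃ of the presented Fi23 with the class of its transpositions: generation, generalized Fitting
subgroup, quotient, centralizers of transpositions; and the same in any isomorphic group.
-/
import Cfsg.Agent.Lib.Spor.Fi23Plus.Seven
import Cfsg.Agent.Lib.Spor.Fi23.Cox
import Cfsg.Agent.Lib.Coprime.Component
import Cfsg.Prelude.Def_FischerSpaces

set_option autoImplicit false

namespace CfsgLib.Spor.Fi23Plus

open CfsgLib.Spor.TC CfsgLib.Spor.Fi23 CfsgLib.Spor.Fi23Out MulAction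

noncomputable section

attribute [local instance] actionF

attribute [local irreducible] phi el xel ael

instance finite_Gp : Finite Gp := Nat.finite_of_card_ne_zero (ne_of_eq_of_ne card_eq (by norm_num))

/-- The class of transpositions. -/
abbrev cla : Set Gp := conjugatesOf zee

theorem trp_cla (p : Pt) : trp p ∈ cla := by
  obtain ⟨g, hg⟩ := trans_pt p
  rw [trp_eq hg]
  exact isConj_iff.2 ⟨g, rfl⟩

theorem cla_trp {d : Gp} (hd : d ∈ cla) : ∃ p : Pt, trp p = d := by
  obtain ⟨g, rfl⟩ := isConj_iff.1 hd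
  exact ⟨g • pt0, trp_eq rfl⟩

theorem phi_kg_trp {i : ℕ} (hi : i < 9) : phi (kg i) = trp (gpt (embK i)) := by
  rw [phi_kg hi, el_single, letters_trp _ (embK_lt i).le]

theorem big_gen : Subgroup.closure {d : Gp | d ∈ cla ∧ d ∈ big} = big := by
  refine le_antisymm ((Subgroup.closure_le _).2 fun d hd => hd.2) ?_
  refine (Subgroup.closure_le (K := Subgroup.closure {d : Gp | d ∈ cla ∧ d ∈ big})).2 fun d hd => ?_
  refine Subgroup.subset_closure ⟨?_, Subgroup.subset_closure hd⟩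
  rcases hd with rfl | ⟨_, ⟨i, hi, rfl⟩, rfl⟩
  · rw [← trp_xpt]; exact trp_cla _
  · rw [phi_kg_trp hi]; exact trp_cla _

theorem sub'_iso : Nonempty (↥sub' ≃* Cfsg.POmega (ZMod 3) qf) :=
  ⟨(even.equivMapOfInjective phi phi_injective).symm.trans evenEquiv⟩

theorem theta_ker_iso : Nonempty (↥theta.ker ≃* Cfsg.POmega (ZMod 3) qf) := by
  obtain ⟨e⟩ := sub'_iso
  exact ⟨((MulEquiv.subgroupCongr theta_ker).trans (Subgroup.subgroupOfEquivOfLe sub'_le)).trans e⟩

theorem ker_quasisimple : Cfsg.IsQuasisimple ↥theta.ker := by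
  obtain ⟨e⟩ := theta_ker_iso
  haveI := pomega_simple
  haveI : IsSimpleGroup ↥theta.ker := e.isSimpleGroup
  have hna : ¬ ∀ a b : ↥theta.ker, a * b = b * a := by
    intro h
    have hm : phi (ev kg [0, 1]) ∈ sub' := ⟨_, ev_even (by simp) (by simp), rfl⟩
    have hm' : (⟨phi (ev kg [0, 1]), phi_mem _⟩ : big) ∈ theta.ker := theta_ker ▸ hm
    have hall : ∀ k ∈ sub', Commute (phi (ev kg [0, 1])) k := fun k hk => by
      have hk' : (⟨k, sub'_le hk⟩ : big) ∈ theta.ker := theta_ker ▸ hk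
      exact congrArg (fun u : ↥theta.ker => ((u : big) : Gp)) (h ⟨_, hm'⟩ ⟨_, hk'⟩)
    have h1 := centralizer_sub' (phi_mem _) hall
    rw [← map_one phi, phi_injective.eq_iff] at h1
    obtain ⟨c, hc, hne⟩ := List.any_eq_true.1 pair_img_ne
    have h2 : el [1, 2] = 1 := by
      rw [show [1, 2] = [0, 1].map embK from rfl, ← phi_ev (by simp), h1, map_one]
    have h3 := el_smul (w := [1, 2]) (below11 (by simp)) (gpt c)
    rw [h2, one_smul] at h3
    have h4 : Nat.beq (ActF.act.wact [1, 2] (ptN c)) (ptN c) = true := by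
      rw [← show ptN c = ActF.act.wact [1, 2] (ptN c) from h3]; exact Nat.beq_refl _
    rw [h4] at hne
    exact absurd hne (by decide)
  have hz : Subgroup.center ↥theta.ker = ⊥ := by
    refine (IsSimpleGroup.eq_bot_or_eq_top_of_normal _ inferInstance).resolve_right fun h => hna fun a b => ?_
    exact (Subgroup.mem_center_iff.1 (h ▸ Subgroup.mem_top b) a)
  refine ⟨Group.isPerfect_def.2 ?_, ?_⟩
  · refine (IsSimpleGroup.eq_bot_or_eq_top_of_normal _ inferInstance).resolve_left fun h => hna fun a b => ?_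
    rw [← commutatorElement_eq_one_iff_mul_comm, ← Subgroup.mem_bot, ← h]
    exact Subgroup.commutator_mem_commutator (Subgroup.mem_top a) (Subgroup.mem_top b)
  · exact ((QuotientGroup.quotientMulEquivOfEq hz).trans QuotientGroup.quotientBot).isSimpleGroup

theorem ker_centralizer : Subgroup.centralizer (theta.ker : Set big) ≤ theta.ker := by
  intro g hg
  have h1 : (g : Gp) = 1 := centralizer_sub' g.2 fun k hk => by
    have := Subgroup.mem_centralizer_iff.1 hg ⟨k, sub'_le hk⟩ (theta_ker ▸ hk)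
    exact (congrArg Subtype.val this).symm
  rw [show g = 1 from Subtype.ext h1]
  exact one_mem _

theorem gfit_of_centralizer {X : Type*} [Group X] [Finite X] (J : Subgroup X) [J.Normal]
    (hJ : Cfsg.IsQuasisimple ↥J) (hC : Subgroup.centralizer (J : Set X) ≤ J) :
    Cfsg.generalizedFittingSubgroup X = J := by
  have hc : Cfsg.IsComponent J := ⟨Subgroup.Normal.isSubnormal inferInstance, hJ⟩
  have hlay : J ≤ Cfsg.layer X := CfsgLib.Coprime.component_le_layer hc
  refine le_antisymm (sup_le (sSup_le fun L hL => ?_) ?_) (hlay.trans le_sup_left)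
  · by_cases e : J = L
    · exact e.ge
    · refine le_trans ?_ hC
      rw [← Subgroup.commutator_eq_bot_iff_le_centralizer]
      exact CfsgLib.Coprime.components_commute hL hc (Ne.symm e)
  · exact le_trans (CfsgLib.Coprime.fitting_le_centralizer_layer.trans (Subgroup.centralizer_le hlay)) hC

theorem gfit_big : Cfsg.generalizedFittingSubgroup ↥big = theta.ker :=
  gfit_of_centralizer theta.ker ker_quasisimple ker_centralizer

theorem outside_check : clsN (ActF.act.wact (su ++ 10 :: su.reverse) 0) = 3 := by decide +kernel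

theorem trp_cls {p : Pt} (hp : trp p ∈ big) : cls p ≠ 3 := by
  intro h3
  obtain ⟨k, r, hk, hr⟩ := exists_root_cls p
  rcases hr with ⟨h, -⟩ | ⟨h | h, -⟩ | ⟨-, hr⟩
  all_goals try exact absurd (h.symm.trans h3) (by decide)
  have hr' : r = spt := Fin.ext hr
  subst hr'
  rw [← hk, ← conj_trp] at hp
  have hs : trp spt ∈ big := by
    have := mul_mem (mul_mem (inv_mem (phi_mem k)) hp) (phi_mem k)
    rwa [show (phi k)⁻¹ * (phi k * trp spt * (phi k)⁻¹) * phi k = trp spt by group] at this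
  obtain ⟨σ, hσ⟩ := exists_moves hs
  have h0 := hσ pt0
  rw [show cls (trp spt • pt0) = 3 from Fin.ext (by
    show clsN ((trp spt • pt0 : Pt) : ℕ) = 3
    rw [trp_spt, el_smul (below11 sw_lt)]
    exact outside_check), show cls pt0 = 0 from Fin.ext cls_roots.1] at h0
  exact (show ∀ σ : Equiv.Perm (Fin 3), (3 : Fin 4) ≠ extCls σ 0 by decide +kernel) σ h0

theorem axa_gpt : (xel * ael) • xpt = gpt 1 := by
  have h : xel * ael * xel * (xel * ael)⁻¹ = trp (gpt 1) := by
    rw [← ael_trp, mul_inv_rev, inv_eq_of_mul_eq_one_right xel_sq, inv_eq_of_mul_eq_one_right ael_sq,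
      show xel * ael * xel * (ael * xel) = xel * (ael * xel * ael) * xel by group, axa,
      show xel * (xel * ael * xel) * xel = (xel * xel) * ael * (xel * xel) by group, xel_sq, one_mul, mul_one]
  refine trp_inj ?_
  rw [← conj_trp, trp_xpt]
  exact h

theorem gpt1_cls : cls (gpt 1) = 0 := Fin.ext (show clsN (ptN 1) = 0 by decide +kernel)

/-- The transpositions of the subgroup are conjugate to the central one. -/
theorem conj_zee {d : Gp} (hd : d ∈ cla) (hdb : d ∈ big) : ∃ g ∈ big, g * zee * g⁻¹ = d := by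
  obtain ⟨p, rfl⟩ := cla_trp hd
  have hne := trp_cls hdb
  have step : ∀ q : Pt, cls q = 0 → ∃ g ∈ big, g * zee * g⁻¹ = trp q := fun q hq => by
    obtain ⟨k, r, hk, hr⟩ := exists_root_cls q
    rcases hr with ⟨-, hr⟩ | ⟨h | h, -⟩ | ⟨h, -⟩
    · refine ⟨phi k, phi_mem k, ?_⟩
      rw [← trp_pt0, show pt0 = r from Fin.ext hr.symm, conj_trp, hk]
    all_goals exact absurd (h.symm.trans hq) (by decide)
  obtain ⟨k, r, hk, hr⟩ := exists_root_cls p
  rcases hr with ⟨h, -⟩ | ⟨-, hr⟩ | ⟨h, -⟩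
  · exact step p h
  · obtain ⟨g, hg, hgz⟩ := step _ gpt1_cls
    have hr' : r = xpt := Fin.ext hr
    subst hr'
    refine ⟨phi k * (xel * ael)⁻¹ * g, mul_mem (mul_mem (phi_mem k) (inv_mem (mul_mem xel_mem ael_mem))) hg, ?_⟩
    rw [show phi k * (xel * ael)⁻¹ * g * zee * (phi k * (xel * ael)⁻¹ * g)⁻¹ =
      phi k * ((xel * ael)⁻¹ * (g * zee * g⁻¹) * (xel * ael)⁻¹⁻¹) * (phi k)⁻¹ by group, hgz, conj_trp, conj_trp,
      ← axa_gpt, inv_smul_smul, hk]
  · exact absurd h hne

/-- What is asserted of the subgroup. -/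
def Triality {G : Type*} [Group G] (D : Set G) (L : Subgroup G) : Prop :=
  Cfsg.IsDSubgroup D L ∧
    Nonempty (↥(Cfsg.generalizedFittingSubgroup ↥L) ≃* Cfsg.POmega (ZMod 3) (Cfsg.quadFormPlus 4 (ZMod 3))) ∧
    (∃ _ : (Cfsg.generalizedFittingSubgroup ↥L).Normal,
      Nonempty (↥L ⧸ Cfsg.generalizedFittingSubgroup ↥L ≃* Equiv.Perm (Fin 3))) ∧
    ∀ d ∈ D, d ∈ L → Nonempty (↥(L ⊓ Subgroup.centralizer ({d} : Set G)) ≃*
      Multiplicative (ZMod 2) × Cfsg.POmega (ZMod 3) (Cfsg.quadFormOdd 3 (ZMod 3)))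

theorem cent_map {G G' : Type*} [Group G] [Group G'] (e : G ≃* G') (L : Subgroup G) (d : G) :
    (L ⊓ Subgroup.centralizer ({d} : Set G)).map e.toMonoidHom =
      L.map e.toMonoidHom ⊓ Subgroup.centralizer ({e d} : Set G') := by
  rw [Subgroup.map_inf _ _ _ e.injective, CfsgLib.Spor.Fi23.map_centralizer, Set.image_singleton]

theorem conj_map {G : Type*} [Group G] {L : Subgroup G} {g : G} (hg : g ∈ L) :
    L.map (MulAut.conj g).toMonoidHom = L := by
  ext y
  rw [Subgroup.mem_map_equiv, MulAut.conj_symm_apply]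
  exact ⟨fun h => by simpa [mul_assoc] using mul_mem (mul_mem hg h) (inv_mem hg),
    fun h => mul_mem (mul_mem (inv_mem hg) h) hg⟩

theorem triality_big : Triality cla big := by
  obtain ⟨e⟩ := theta_ker_iso
  refine ⟨big_gen, ⟨(MulEquiv.subgroupCongr gfit_big).trans e⟩, ?_, fun d hd hdb => ?_⟩
  · haveI hn : (Cfsg.generalizedFittingSubgroup ↥big).Normal := gfit_big ▸ MonoidHom.normal_ker theta
    exact ⟨hn, ⟨(QuotientGroup.quotientMulEquivOfEq gfit_big).trans
      (QuotientGroup.quotientKerEquivOfSurjective theta theta_surjective)⟩⟩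
  · obtain ⟨g, hg, rfl⟩ := conj_zee hd hdb
    obtain ⟨f⟩ := cent_zee_iso
    have h := cent_map (MulAut.conj g) big zee
    rw [conj_map hg, MulAut.conj_apply] at h
    exact ⟨((Subgroup.equivMapOfInjective _ _ (MulAut.conj g).injective).trans
      (MulEquiv.subgroupCongr h)).symm.trans f⟩

/-- The same in an isomorphic group. -/
theorem exists_triality {G : Type*} [Group G] (f : G ≃* Gp) {D : Set G} (hD : f '' D = cla) :
    ∃ L : Subgroup G, Triality D L := by
  obtain ⟨h1, ⟨e2⟩, ⟨hn, ⟨e3⟩⟩, h4⟩ := triality_big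
  set L := big.map f.symm.toMonoidHom with hL
  let ψ : ↥big ≃* ↥L := big.equivMapOfInjective f.symm.toMonoidHom f.symm.injective
  have hmem : ∀ x : G, x ∈ L ↔ f x ∈ big := fun x => by
    rw [hL, Subgroup.mem_map_equiv, MulEquiv.symm_symm]
  have hDmem : ∀ x : G, x ∈ D ↔ f x ∈ cla := fun x => by
    rw [← hD]
    exact ⟨fun h => ⟨x, h, rfl⟩, fun ⟨y, hy, e⟩ => f.injective e ▸ hy⟩
  have hF : (Cfsg.generalizedFittingSubgroup ↥big).map ψ.toMonoidHom = Cfsg.generalizedFittingSubgroup ↥L :=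
    (Subgroup.map_sup _ _ _).trans (congrArg₂ (· ⊔ ·) (CfsgLib.Coprime.map_layer_equiv ψ)
      (CfsgLib.Coprime.map_fitting_equiv ψ))
  refine ⟨L, ?_, ⟨((Subgroup.equivMapOfInjective _ _ ψ.injective).trans (MulEquiv.subgroupCongr hF)).symm.trans e2⟩,
    ?_, fun d hd hdL => ?_⟩
  · show Subgroup.closure {d : G | d ∈ D ∧ d ∈ L} = L
    have hs : {d : G | d ∈ D ∧ d ∈ L} = f.symm '' {d : Gp | d ∈ cla ∧ d ∈ big} := by
      ext x
      constructor
      · exact fun ⟨a, b⟩ => ⟨f x, ⟨(hDmem x).1 a, (hmem x).1 b⟩, f.symm_apply_apply x⟩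
      · rintro ⟨y, ⟨a, b⟩, rfl⟩
        exact ⟨(hDmem _).2 (by rwa [f.apply_symm_apply]), (hmem _).2 (by rwa [f.apply_symm_apply])⟩
    rw [hs, ← MulEquiv.coe_toMonoidHom, ← MonoidHom.map_closure, h1]
  · haveI := hn
    haveI hn' : (Cfsg.generalizedFittingSubgroup ↥L).Normal := hF ▸ Subgroup.Normal.map hn _ ψ.surjective
    exact ⟨hn', ⟨(QuotientGroup.congr _ _ ψ hF).symm.trans e3⟩⟩
  · obtain ⟨c⟩ := h4 (f d) ((hDmem d).1 hd) ((hmem d).1 hdL)
    have h := cent_map f.symm big (f d)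
    rw [f.symm_apply_apply, ← hL] at h
    exact ⟨((Subgroup.equivMapOfInjective _ _ f.symm.injective).trans (MulEquiv.subgroupCongr h)).symm.trans c⟩

/-- The presented group with the class of its first generator. -/
theorem exists_pres_equiv : ∃ e : Cfsg.Spor.Fi23 ≃* Gp,
    e '' conjugatesOf (PresentedGroup.of Cfsg.Spor.Fi23.Gen.a : Cfsg.Spor.Fi23) = cla := by
  have hg : ∀ {k : ℕ} {R : List PowRel}, coxData.k = k → coxData.rels = R →
      ∃ e : Pres k R ≃* Cfsg.Spor.Fi23, e (presGen k R 0) = PresentedGroup.of Cfsg.Spor.Fi23.Gen.a := by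
    rintro k R rfl rfl
    exact ⟨coxData.equiv, coxData.equiv_gen Cfsg.Spor.Fi23.Gen.a⟩
  obtain ⟨e, he⟩ := hg (k := ActF.act.k) rfl rels_eq
  refine ⟨e.symm, ?_⟩
  have h0 : e.symm (PresentedGroup.of Cfsg.Spor.Fi23.Gen.a) = trp (gpt 0) := by
    rw [← he, e.symm_apply_apply]
    exact gens_eq 0 (by norm_num)
  obtain ⟨c, hc⟩ := isConj_iff.1 (trp_cla (gpt 0))
  ext y
  constructor
  · rintro ⟨x, hx, rfl⟩
    obtain ⟨g, rfl⟩ := isConj_iff.1 hx
    refine isConj_iff.2 ⟨e.symm g * c, ?_⟩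
    rw [map_mul, map_mul, map_inv, h0, ← hc]
    group
  · intro hy
    obtain ⟨g, rfl⟩ := isConj_iff.1 hy
    refine ⟨e (g * c⁻¹) * PresentedGroup.of Cfsg.Spor.Fi23.Gen.a * (e (g * c⁻¹))⁻¹, isConj_iff.2 ⟨_, rfl⟩, ?_⟩
    rw [map_mul, map_mul, map_inv, e.symm_apply_apply, h0, ← hc]
    group

end

end CfsgLib.Spor.Fi23Plus
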